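import Cfsg.Agent.Lib.MathieuOut.Gen
import Cfsg.Agent.Lib.Compute.M24

/-!
# Subgroups containing the normalizer of a Sylow 23-subgroup
-/

set_option autoImplicit false

namespace Cfsg.Agent.Lib.MathieuMax

open Cfsg Equiv Cfsg.Agent.Lib.MathieuOut Cfsg.Agent.Lib.Compute

/-- The normalizer of a self-centralizing subgroup of prime order `p` has order dividing
`p (p - 1)`, and dividing `p e` if moreover `p - 1 = 2 e`, `e` odd, and no element inverts it. -/
theorem card_normalizer_dvd {G : Type*} [Group G] [Finite G] {p : ℕ} [hp : Fact p.Prime] (x : G)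
    (ho : orderOf x = p) (hc : ∀ y : G, Commute y x → y ∈ Subgroup.zpowers x) :
    Nat.card (Subgroup.normalizer (Subgroup.zpowers x : Set G)) ∣ p * (p - 1) ∧
      ∀ e, p - 1 = 2 * e → Odd e → (∀ y : G, y * x * y⁻¹ ≠ x⁻¹) →
        Nat.card (Subgroup.normalizer (Subgroup.zpowers x : Set G)) ∣ p * e := by
  set P := Subgroup.zpowers x with hP
  have hcP : Nat.card P = p := by rw [hP, Nat.card_zpowers, ho]
  let φ := Subgroup.normalizerMonoidHom P
  have hker : Nat.card φ.ker = p := by
    rw [← hcP]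
    have : φ.ker = P.subgroupOf (Subgroup.normalizer (P : Set G)) := by
      rw [show φ.ker = _ from Subgroup.normalizerMonoidHom_ker P]
      refine le_antisymm ?_ ?_
      · intro n hn
        exact hc _ ((Subgroup.mem_centralizer_iff.1 hn x (Subgroup.mem_zpowers x)).symm)
      · intro n hn
        refine Subgroup.mem_centralizer_iff.2 fun z hz => ?_
        obtain ⟨a, ha⟩ := hn
        obtain ⟨b, hb⟩ := hz
        show z * (n : G) = (n : G) * z
        have ha' : x ^ a = (n : G) := ha
        have hb' : x ^ b = z := hb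
        rw [← ha', ← hb', ← zpow_add, ← zpow_add, add_comm]
    rw [this]
    exact Nat.card_congr (Subgroup.subgroupOfEquivOfLe Subgroup.le_normalizer).toEquiv
  have hcard : Nat.card (Subgroup.normalizer (P : Set G)) = p * Nat.card φ.range := by
    rw [Subgroup.card_eq_card_quotient_mul_card_subgroup φ.ker, hker,
      Nat.card_congr (QuotientGroup.quotientKerEquivRange φ).toEquiv, mul_comm]
  have haut : Nat.card (MulAut P) = p - 1 := by
    rw [IsCyclic.card_mulAut, hcP, Nat.totient_prime hp.out]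
  have hr : Nat.card φ.range ∣ p - 1 := haut ▸ Subgroup.card_subgroup_dvd_card φ.range
  refine ⟨hcard ▸ Nat.mul_dvd_mul_left p hr, fun e he hodd hinv => ?_⟩
  rw [hcard]
  refine Nat.mul_dvd_mul_left p ?_
  by_cases h2 : 2 ∣ Nat.card φ.range
  · exfalso
    obtain ⟨f, hf⟩ := exists_prime_orderOf_dvd_card' 2 h2
    obtain ⟨n, hn⟩ := f.2
    set g : P := ⟨x, Subgroup.mem_zpowers x⟩ with hg
    have hnf : (n : G) * x * (n : G)⁻¹ = ((f : MulAut P) g : P) := by rw [← hn]; rfl
    obtain ⟨k, hk⟩ := Subgroup.mem_zpowers_iff.1 ((f : MulAut P) g).2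
    have hff : (f : MulAut P) ((f : MulAut P) g) = g := by
      have h1 : f * f = 1 := by rw [← pow_two, ← hf, pow_orderOf_eq_one]
      have h2 := congrArg (fun q : φ.range => (q : MulAut P) g) h1
      simpa using h2
    have hfg : (f : MulAut P) g = g ^ k := Subtype.ext (by simpa [hg] using hk.symm)
    rw [hfg, map_zpow, hfg, ← zpow_mul] at hff
    have hkk : x ^ (k * k) = x := by simpa [hg] using congrArg (fun q : P => (q : G)) hff
    have hd : (p : ℤ) ∣ k * k - 1 := by
      rw [← ho, orderOf_dvd_iff_zpow_eq_one, zpow_sub, hkk, zpow_one, mul_inv_cancel]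
    rw [show k * k - 1 = (k - 1) * (k + 1) by ring] at hd
    rcases (Nat.prime_iff_prime_int.1 hp.out).dvd_or_dvd hd with h | h
    · have hx : x ^ k = x := by
        have : x ^ (k - 1) = 1 := orderOf_dvd_iff_zpow_eq_one.1 (ho.symm ▸ h)
        rwa [zpow_sub, zpow_one, mul_inv_eq_one] at this
      have : f = 1 := by
        refine Subtype.ext (MulEquiv.ext fun z => ?_)
        obtain ⟨b, hb⟩ := Subgroup.mem_zpowers_iff.1 z.2
        have hz : z = g ^ b := Subtype.ext (by simpa [hg] using hb.symm)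
        rw [hz, map_zpow, hfg]
        have : g ^ k = g := Subtype.ext (by simpa [hg] using hx)
        rw [this]; rfl
      rw [this, orderOf_one] at hf
      omega
    · have : x ^ (k + 1) = 1 := orderOf_dvd_iff_zpow_eq_one.1 (ho.symm ▸ h)
      rw [zpow_add, zpow_one, mul_eq_one_iff_eq_inv] at this
      exact hinv n (by rw [hnf, ← hk, this])
  · have hco : (Nat.card φ.range).Coprime 2 := by
      rw [Nat.coprime_comm, (Nat.Prime.coprime_iff_not_dvd Nat.prime_two)]; exact h2
    exact hco.dvd_of_dvd_mul_left (he ▸ hr)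

/-- The order of a finite group is congruent modulo `p` to the order of the normalizer of a
Sylow subgroup of order `p`. -/
theorem card_modEq_normalizer {G : Type*} [Group G] [Finite G] {p : ℕ} [hp : Fact p.Prime] (x : G)
    (ho : orderOf x = p) (h2 : ¬ p * p ∣ Nat.card G) :
    ∃ n, n % p = 1 ∧
      Nat.card G = n * Nat.card (Subgroup.normalizer (Subgroup.zpowers x : Set G)) := by
  have h0 : Nat.card G ≠ 0 := Nat.card_pos.ne'
  have hfac : (Nat.card G).factorization p = 1 := by
    have h1 : 1 ≤ (Nat.card G).factorization p :=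
      (hp.out.dvd_iff_one_le_factorization h0).1 (ho ▸ orderOf_dvd_natCard x)
    by_contra hne
    exact h2 (by rw [← pow_two]; exact (hp.out.pow_dvd_iff_le_factorization h0).2 (by omega))
  let P : Sylow p G := Sylow.ofCard (Subgroup.zpowers x)
    (by rw [Nat.card_zpowers, ho, hfac, pow_one])
  refine ⟨Nat.card (Sylow p G), ?_, ?_⟩
  · have := card_sylow_modEq_one p G
    rw [Nat.ModEq, Nat.one_mod_eq_one.2 hp.out.one_lt.ne'] at this
    exact this
  · rw [Sylow.card_eq_index_normalizer P]
    exact (Subgroup.index_mul_card _).symm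

instance fact23 : Fact (Nat.Prime 23) := ⟨by norm_num⟩
instance fact11 : Fact (Nat.Prime 11) := ⟨by norm_num⟩

theorem orderOf_dbl : orderOf dbl = 11 := orderOf_eq_prime (by decide +kernel) (by decide +kernel)

/-- The table of values of a permutation. -/
def table (σ : Perm GolayPt) : List ℕ := List.ofFn fun i : Fin 24 => (enc (σ (enc.symm i)) : ℕ)

theorem not_mem_of_badMap {σ : Perm GolayPt} (h : badMap (table σ) = true) : σ ∉ M24 := by
  intro hσ
  have := not_badMap hσ (table σ) fun i => by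
    rw [table, List.getD_eq_getElem _ _ (by simp)]
    exact List.getElem_ofFn _
  rw [h] at this
  cases this

/-- Negation of the residues. -/
def negPt : Perm GolayPt where
  toFun p := p.map (22 * ·)
  invFun p := p.map (22 * ·)
  left_inv := by intro p; revert p; decide +kernel
  right_inv := by intro p; revert p; decide +kernel

theorem negPt_shift : ∀ c : Fin 23, badMap (table (negPt * shift ^ (c : ℕ))) = true := by
  decide +kernel

theorem negPt_ctw : negPt * ctw * negPt ∉ M24 := not_mem_of_badMap (by decide +kernel)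

theorem negPt_conj : negPt * negPt = 1 ∧ negPt * shift * negPt = shift ^ 22 ∧
    negPt * dbl * negPt = dbl ∧ negPt * projInv * negPt = projInv ∧
    negPt * shift ^ 22 = shift * negPt := by
  decide +kernel

theorem no_invert_shift {σ : Perm GolayPt} (hσ : σ ∈ M24) : σ * shift * σ⁻¹ ≠ shift⁻¹ := by
  intro h
  have hn : negPt⁻¹ = negPt := inv_eq_of_mul_eq_one_right negPt_conj.1
  obtain ⟨c, hcw⟩ := eq_pow_shift (σ := negPt * σ) (by
    show negPt * σ * shift = shift * (negPt * σ)
    have h1 : σ * shift = shift⁻¹ * σ := by rw [← h]; group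
    have h2 : negPt * shift⁻¹ = shift * negPt := by
      rw [← pow22_conj.1]
      exact negPt_conj.2.2.2.2
    rw [mul_assoc, h1, ← mul_assoc, h2, mul_assoc])
  have : σ = negPt * shift ^ (c : ℕ) := by
    rw [← hcw, ← mul_assoc, negPt_conj.1, one_mul]
  exact not_mem_of_badMap (negPt_shift c) (this ▸ hσ)

theorem dbl_inverters : ∀ i : Fin 11, (projInv * dbl ^ (i : ℕ)) none ≠ none := by decide +kernel

theorem projInv_facts : projInv * dbl * projInv⁻¹ = dbl⁻¹ ∧ orderOf projInv = 2 := by
  refine ⟨by decide +kernel, orderOf_eq_prime (by decide +kernel) (by decide +kernel)⟩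

theorem no_invert_dbl {σ : Perm GolayPt} (hσ : σ ∈ M24) (h0 : σ none = none) :
    σ * dbl * σ⁻¹ ≠ dbl⁻¹ := by
  intro h
  have hp : projInv⁻¹ * dbl⁻¹ * projInv = dbl := by rw [← projInv_facts.1]; group
  obtain ⟨i, hi⟩ := eq_pow_dbl (σ := projInv⁻¹ * σ) (mul_mem (inv_mem projInv_mem) hσ) (by
    show projInv⁻¹ * σ * dbl = dbl * (projInv⁻¹ * σ)
    conv_rhs => rw [← hp, ← h]
    group)
  have : σ = projInv * dbl ^ (i : ℕ) := by rw [← hi]; group
  exact dbl_inverters i (by rw [← this]; exact h0)

theorem dvd_967680 {d : ℕ} (h : d ∣ 967680) : ∃ a < 11, ∃ b < 946, b ∣ 945 ∧ d = 2 ^ a * b := by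
  obtain ⟨d1, d2, h1, h2, rfl⟩ := exists_dvd_and_dvd_of_dvd_mul
    (show d ∣ 2 ^ 10 * 945 by norm_num; exact h)
  obtain ⟨a, ha, rfl⟩ := (Nat.dvd_prime_pow Nat.prime_two).1 h1
  exact ⟨a, by omega, d2, by have := Nat.le_of_dvd (by norm_num) h2; omega, h2, rfl⟩

set_option synthInstance.maxSize 2000 in
set_option synthInstance.maxHeartbeats 200000 in
theorem arith_check : ∀ a : ℕ, a < 11 → ∀ b : ℕ, b < 946 → b ∣ 945 → (2 ^ a * b) % 23 = 1 →
    ((2 ^ a * b = 1 ∨ 2 ^ a * b = 24 ∨ 2 ^ a * b = 40320 ∨ 2 ^ a * b = 967680) ∨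
      ∀ j ∈ [1, 2, 5, 10], j ∣ 23 * (2 ^ a * b) → (23 * (2 ^ a * b) / j) % 11 ≠ 1) ∧
    ((2 ^ a * b = 1 ∨ 2 ^ a * b = 40320 ∨ 2 ^ a * b = 967680) ∨
      ∀ j ∈ [1, 5], j ∣ 23 * (2 ^ a * b) → (23 * (2 ^ a * b) / j) % 11 ≠ 1) := by
  decide +kernel

theorem orders_of_le {H : Subgroup (Perm GolayPt)} (hH : H ≤ M24) (hs : shift ∈ H) (hd : dbl ∈ H) :
    (∃ d, Nat.card H = 253 * d ∧ (d = 1 ∨ d = 24 ∨ d = 40320 ∨ d = 967680)) ∧
    ((∀ σ ∈ H, σ none = none) →
      ∃ d, Nat.card H = 253 * d ∧ (d = 1 ∨ d = 40320)) := by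
  have hdvd : Nat.card H ∣ 244823040 := card_M24 ▸ Subgroup.card_dvd_of_le hH
  have hns : ∀ q : ℕ, ¬ q * q ∣ 244823040 → ¬ q * q ∣ Nat.card H :=
    fun q hq h => hq (h.trans hdvd)
  set x : H := ⟨shift, hs⟩ with hx
  set z : H := ⟨dbl, hd⟩ with hz
  have hox : orderOf x = 23 := by rw [← Subgroup.orderOf_coe]; exact orderOf_shift
  have hoz : orderOf z = 11 := by rw [← Subgroup.orderOf_coe]; exact orderOf_dbl
  have hcx : ∀ y : H, Commute y x → y ∈ Subgroup.zpowers x := by
    intro y hy
    obtain ⟨c, hc⟩ := eq_pow_shift (σ := (y : Perm GolayPt)) (hy.map H.subtype)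
    exact ⟨(c : ℕ), Subtype.ext (by simpa [hx] using hc.symm)⟩
  have hcz : ∀ y : H, Commute y z → y ∈ Subgroup.zpowers z := by
    intro y hy
    obtain ⟨c, hc⟩ := eq_pow_dbl (σ := (y : Perm GolayPt)) (hH y.2) (hy.map H.subtype)
    exact ⟨(c : ℕ), Subtype.ext (by simpa [hz] using hc.symm)⟩
  have hN : Nat.card (Subgroup.normalizer (Subgroup.zpowers x : Set H)) = 253 := by
    refine Nat.dvd_antisymm ?_ ?_
    · have := (card_normalizer_dvd x hox hcx).2 11 rfl (by decide) fun y h =>
        no_invert_shift (hH y.2) (by simpa [hx] using congrArg (fun q : H => (q : Perm GolayPt)) h)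
      simpa using this
    · refine Nat.Coprime.mul_dvd_of_dvd_of_dvd (show Nat.Coprime 23 11 by norm_num) ?_ ?_
      · rw [← hox, ← Nat.card_zpowers]
        exact Subgroup.card_dvd_of_le Subgroup.le_normalizer
      · rw [← hoz]
        have hmem : z ∈ Subgroup.normalizer (Subgroup.zpowers x : Set H) := by
          have h1 : z * x * z⁻¹ = x ^ 2 := Subtype.ext (by simpa [hx, hz] using pow22_conj.2.1)
          have hle : (Subgroup.zpowers x).map (MulAut.conj z).toMonoidHom = Subgroup.zpowers x := by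
            rw [MonoidHom.map_zpowers]
            refine (Subgroup.eq_of_le_of_card_ge ?_ ?_)
            · rw [Subgroup.zpowers_le]
              exact ⟨(2 : ℕ), by simpa [zpow_natCast] using h1.symm⟩
            · rw [Nat.card_zpowers, Nat.card_zpowers]
              exact le_of_eq (MulEquiv.orderOf_eq (MulAut.conj z) x).symm
          exact Subgroup.mem_normalizer_iff.2 fun w => by
            conv_rhs => rw [← hle]
            exact (Subgroup.mem_map_iff_mem (MulAut.conj z).injective).symm
        exact Subgroup.orderOf_coe (⟨z, hmem⟩ : Subgroup.normalizer _) ▸ orderOf_dvd_natCard _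
  obtain ⟨n, hn, hcard⟩ := card_modEq_normalizer x hox (hns 23 (by norm_num))
  rw [hN] at hcard
  have hn' : n ∣ 967680 := by
    rw [hcard] at hdvd
    exact Nat.dvd_of_mul_dvd_mul_right (by norm_num : 0 < 253) (by simpa using hdvd)
  obtain ⟨a, ha, b, hb, hb', rfl⟩ := dvd_967680 hn'
  obtain ⟨hfull, hstab⟩ := arith_check a ha b hb hb' hn
  obtain ⟨m, hm, hcard'⟩ := card_modEq_normalizer z hoz (hns 11 (by norm_num))
  obtain ⟨hd1, hd2⟩ := card_normalizer_dvd z hoz hcz
  have key : ∀ (l : List ℕ) (e : ℕ), Nat.card (Subgroup.normalizer (Subgroup.zpowers z : Set H))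
      ∣ 11 * e → (∀ j, j ∣ e → j ∈ l) →
      ∃ j ∈ l, j ∣ 23 * (2 ^ a * b) ∧ (23 * (2 ^ a * b) / j) % 11 = 1 := by
    intro l e he hl
    have h11 : 11 ∣ Nat.card (Subgroup.normalizer (Subgroup.zpowers z : Set H)) := by
      rw [← hoz, ← Nat.card_zpowers]
      exact Subgroup.card_dvd_of_le Subgroup.le_normalizer
    obtain ⟨j, hj⟩ := h11
    rw [hj] at he hcard'
    have hje : j ∣ e := Nat.dvd_of_mul_dvd_mul_left (by norm_num) he
    have heq : 23 * (2 ^ a * b) = m * j := by
      have h := hcard.symm.trans hcard'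
      have : 11 * (23 * (2 ^ a * b)) = 11 * (m * j) := by rw [← mul_assoc 11 m]; linarith
      exact Nat.eq_of_mul_eq_mul_left (by norm_num) this
    have hj0 : 0 < j := by
      rcases Nat.eq_zero_or_pos j with rfl | h
      · simp at heq
        omega
      · exact h
    refine ⟨j, hl j hje, Dvd.intro_left m heq.symm, ?_⟩
    rw [heq, Nat.mul_div_cancel _ hj0]
    exact hm
  refine ⟨⟨2 ^ a * b, by rw [hcard, mul_comm], ?_⟩, fun hfix => ⟨2 ^ a * b, by rw [hcard, mul_comm], ?_⟩⟩
  · rcases hfull with h | h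
    · exact h
    · obtain ⟨j, hjl, hjd, hj⟩ := key [1, 2, 5, 10] 10 hd1 (by
        intro j hj
        have : j ∈ Nat.divisors 10 := Nat.mem_divisors.2 ⟨hj, by norm_num⟩
        revert this; revert hj; intro _ this
        rw [show Nat.divisors 10 = {1, 2, 5, 10} from by decide +kernel] at this
        simpa using this)
      exact absurd hj (h j hjl hjd)
  · rcases hstab with h | h
    · rcases h with h | h | h
      · exact Or.inl h
      · exact Or.inr h
      · exfalso
        have hle : H ≤ Spor.M23 := fun σ hσ => ⟨hH hσ, hfix σ hσ⟩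
        have := Nat.le_of_dvd Nat.card_pos (Subgroup.card_dvd_of_le hle)
        rw [card_M23, hcard, h] at this
        norm_num at this
    · obtain ⟨j, hjl, hjd, hj⟩ := key [1, 5] 5 (hd2 5 rfl (by decide) fun y h =>
        no_invert_dbl (hH y.2) (hfix y y.2)
          (by simpa [hz] using congrArg (fun q : H => (q : Perm GolayPt)) h)) (by
        intro j hj
        rcases (Nat.dvd_prime (by norm_num)).1 hj with h | h <;> simp [h])
      exact absurd hj (h j hjl hjd)

end Cfsg.Agent.Lib.MathieuMax
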