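import Cfsg.Agent.Lib.MathieuMax.Basic
import Cfsg.Agent.Lib.Compute.M24Action
import Cfsg.Agent.S0378
import Cfsg.Agent.Lib.M24Geom.Scan

/-!
# Subgroups of order 7920 and 2112 of the group of degree 22
-/

set_option autoImplicit false

namespace Cfsg.Agent.Lib.MathieuMax

open Cfsg Equiv Cfsg.Agent.Lib.MathieuOut Cfsg.Agent.Lib.Compute

instance fact5 : Fact (Nat.Prime 5) := ⟨by norm_num⟩

/-- An element of order 4 squaring the cube twist. -/
def tw : Perm GolayPt where
  toFun p := enc.symm (Fin.ofNat 24 (app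
    0x17000b000d000c000e00010011000a000300160005000700130010001400150009001200080004000f000600020000
    (enc p)))
  invFun p := enc.symm (Fin.ofNat 24 (app
    0x17000e00080009000b00060011000a00030013001500140016001000070005000c0002000d0004000f000100120000
    (enc p)))
  left_inv := by intro p; revert p; decide +kernel
  right_inv := by intro p; revert p; decide +kernel

theorem tw_mem : tw ∈ Spor.M22 :=
  ⟨⟨mem_M24_of_app
    (P := 0x17000b000d000c000e00010011000a000300160005000700130010001400150009001200080004000f000600020000)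
    (by decide +kernel) (by decide +kernel), by show tw none = none; decide +kernel⟩,
    by show tw (some 0) = some 0; decide +kernel⟩

theorem ctw_mem_M22 : ctw ∈ Spor.M22 := ⟨ctw_mem_M23, by show ctw (some 0) = some 0; decide +kernel⟩

theorem dbl_mem_M22 : dbl ∈ Spor.M22 := ⟨dbl_mem_M23, by show dbl (some 0) = some 0; decide +kernel⟩

theorem tw_facts : tw * ctw * tw⁻¹ = ctw ^ 2 ∧ (dbl * tw) ^ 7 = 1 ∧ dbl * tw ≠ 1 ∧ ctw ^ 5 = 1 ∧
    ctw ≠ 1 := by
  decide +kernel

theorem orderOf_ctw : orderOf ctw = 5 := orderOf_eq_prime tw_facts.2.2.2.1 tw_facts.2.2.2.2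

/-- A change of base points: `none, some 0` go to `0, 1`, and a cycle of the cube twist
starts `2, 3, 4`. -/
def toBase : Perm GolayPt where
  toFun p := enc.symm (Fin.ofNat 24 (app
    0xf000a0010001600030006001100090007000b0014000d000c000e001200050008001300040017001500020001
    (enc p)))
  invFun p := enc.symm (Fin.ofNat 24 (app
    0x300130002000c000500080010001400160009000b000a000d0015000f0006000e0011000700040012000100000017
    (enc p)))
  left_inv := by intro p; revert p; decide +kernel
  right_inv := by intro p; revert p; decide +kernel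

theorem toBase_mem : toBase ∈ M24 :=
  mem_M24_of_app
    (P := 0xf000a0010001600030006001100090007000b0014000d000c000e001200050008001300040017001500020001)
    (by decide +kernel) (by decide +kernel)

/-- The code of the conjugate of the cube twist by `toBase`. -/
def ctwBase : ℕ :=
  0x17000f00080012000a0011000b000c0007001400160005000e0010000900020006000d001300150004000300010000

theorem ctwBase_app : ∀ p : GolayPt,
    ((enc ((toBase * ctw * toBase⁻¹) p) : Fin 24) : ℕ) = app ctwBase (enc p) := by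
  decide +kernel

theorem scan_ctwBase :
    M24Geom.scanCount 24 (app ctwBase) (app ctwBase) cert2 [] id = 5 := by decide +kernel

theorem enc_symm_apply (ρ : Perm (Fin 24)) (i : Fin 24) :
    toGP ρ (enc.symm i) = enc.symm (ρ i) := by
  rw [toGP_apply, Equiv.apply_symm_apply]

/-- The cube twist is self-centralizing in the group of degree 22. -/
theorem centralizer_ctw {σ : Perm GolayPt} (hσ : σ ∈ Spor.M22) (h : Commute σ ctw) :
    σ ∈ Subgroup.zpowers ctw := by
  set C := Spor.M22 ⊓ Subgroup.centralizer ({ctw} : Set (Perm GolayPt)) with hC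
  set X : Perm (Fin 24) := toGP.symm (toBase * ctw * toBase⁻¹) with hX
  have hXr : Repr X (app ctwBase) := fun i => by
    have := ctwBase_app (enc.symm i)
    rw [Equiv.apply_symm_apply] at this
    rw [← this, hX]
    congr 1
  have hle : Nat.card C ≤ 5 := by
    rw [← scan_ctwBase, M24Geom.scanCount_eq hXr hXr chk_cert2 (π := 1) (f := id) Repr.one (by simp)]
    have : Finite (M24Geom.solutions X X 1 cert2) := Subtype.finite
    have hmem : ∀ τ : C, toGP.symm (toBase * (τ : Perm GolayPt) * toBase⁻¹) ∈ grp 24 cert2 ∧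
        1 * toGP.symm (toBase * (τ : Perm GolayPt) * toBase⁻¹) * X
          = X * (1 * toGP.symm (toBase * (τ : Perm GolayPt) * toBase⁻¹)) := by
      rintro ⟨τ, ⟨⟨hτ, h0⟩, h1⟩, hc⟩
      have hc' : ctw * τ = τ * ctw := Subgroup.mem_centralizer_iff.1 hc ctw rfl
      refine ⟨?_, ?_⟩
      · rw [mem_cert2]
        refine ⟨?_, ?_, ?_⟩
        · rw [← K24_eq, mem_K24, MulEquiv.apply_symm_apply]
          exact mul_mem (mul_mem toBase_mem hτ) (inv_mem toBase_mem)
        · apply enc.symm.injective
          rw [← enc_symm_apply, MulEquiv.apply_symm_apply, Perm.mul_apply, Perm.mul_apply,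
            show enc.symm (0 : Fin 24) = toBase none from by decide +kernel,
            Perm.inv_eq_iff_eq.2 rfl]
          exact congrArg toBase h0
        · apply enc.symm.injective
          rw [← enc_symm_apply, MulEquiv.apply_symm_apply, Perm.mul_apply, Perm.mul_apply,
            show enc.symm (1 : Fin 24) = toBase (some 0) from by decide +kernel,
            Perm.inv_eq_iff_eq.2 rfl]
          exact congrArg toBase h1
      · simp only [one_mul, hX]
        rw [← map_mul, ← map_mul]
        refine congrArg toGP.symm ?_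
        calc toBase * τ * toBase⁻¹ * (toBase * ctw * toBase⁻¹)
            = toBase * (τ * ctw) * toBase⁻¹ := by group
          _ = toBase * (ctw * τ) * toBase⁻¹ := by rw [hc']
          _ = _ := by group
    refine Nat.card_le_card_of_injective
      (fun τ : C => (⟨toGP.symm (toBase * (τ : Perm GolayPt) * toBase⁻¹), hmem τ⟩ :
        M24Geom.solutions X X 1 cert2)) fun a b e => ?_
    have e' := toGP.symm.injective (congrArg Subtype.val e)
    exact Subtype.ext (mul_left_cancel (mul_right_cancel e'))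
  have hz : Subgroup.zpowers ctw ≤ C := Subgroup.zpowers_le.2
    ⟨ctw_mem_M22, Subgroup.mem_centralizer_iff.2 fun z hz => by rw [Set.mem_singleton_iff.1 hz]⟩
  rw [Subgroup.eq_of_le_of_card_ge hz (by rw [Nat.card_zpowers, orderOf_ctw]; exact hle)]
  exact ⟨hσ, Subgroup.mem_centralizer_iff.2 fun z hz => by
    rw [Set.mem_singleton_iff.1 hz]; exact h.eq.symm⟩

/-- Sylow arithmetic inside a subgroup. -/
theorem card_inf_normalizer {G : Type*} [Group G] [Finite G] {p : ℕ} [Fact p.Prime]
    (H : Subgroup G) (x : G) (hx : x ∈ H) (ho : orderOf x = p) (h2 : ¬ p * p ∣ Nat.card H) :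
    ∃ n, n % p = 1 ∧ Nat.card H =
      n * Nat.card (H ⊓ Subgroup.normalizer (Subgroup.zpowers x : Set G) : Subgroup G) := by
  obtain ⟨n, hn, hc⟩ := card_modEq_normalizer (⟨x, hx⟩ : H)
    (by rw [← Subgroup.orderOf_coe]; exact ho) h2
  refine ⟨n, hn, hc.trans ?_⟩
  congr 1
  have hle : Subgroup.zpowers x ≤ H := Subgroup.zpowers_le.2 hx
  have hzp : Subgroup.zpowers (⟨x, hx⟩ : H) = (Subgroup.zpowers x).subgroupOf H := by
    apply Subgroup.map_injective H.subtype_injective
    rw [MonoidHom.map_zpowers, Subgroup.map_subgroupOf_eq_of_le hle]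
    rfl
  rw [hzp, ← Subgroup.subgroupOf_normalizer_eq hle, ← Subgroup.inf_subgroupOf_left]
  exact Nat.card_congr (Subgroup.subgroupOfEquivOfLe inf_le_left).toEquiv

theorem card_M22 : Nat.card Spor.M22 = 443520 := by
  rw [← Cfsg.Agent.S0378.result none (some 0) (by simp)]
  exact Nat.card_congr
    { toFun := fun σ => ⟨⟨σ.1, σ.2.1.1⟩, σ.2.1.2, σ.2.2⟩
      invFun := fun σ => ⟨σ.1.1, ⟨σ.1.2, σ.2.1⟩, σ.2.2⟩
      left_inv := fun _ => rfl
      right_inv := fun _ => rfl }

theorem normalizer_bounds :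
    Nat.card (Spor.M22 ⊓ Subgroup.normalizer (Subgroup.zpowers dbl : Set (Perm GolayPt)) :
      Subgroup (Perm GolayPt)) ∣ 55 ∧
    Nat.card (Spor.M22 ⊓ Subgroup.normalizer (Subgroup.zpowers ctw : Set (Perm GolayPt)) :
      Subgroup (Perm GolayPt)) ∣ 20 := by
  have hconv : ∀ x (hx : x ∈ Spor.M22),
      Nat.card (Subgroup.normalizer
        (Subgroup.zpowers (⟨x, hx⟩ : Spor.M22) : Set Spor.M22)) =
      Nat.card (Spor.M22 ⊓ Subgroup.normalizer (Subgroup.zpowers x : Set (Perm GolayPt)) :
        Subgroup (Perm GolayPt)) := by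
    intro x hx
    have hle : Subgroup.zpowers x ≤ Spor.M22 := Subgroup.zpowers_le.2 hx
    have hzp : Subgroup.zpowers (⟨x, hx⟩ : Spor.M22)
        = (Subgroup.zpowers x).subgroupOf Spor.M22 := by
      apply Subgroup.map_injective Spor.M22.subtype_injective
      rw [MonoidHom.map_zpowers, Subgroup.map_subgroupOf_eq_of_le hle]
      rfl
    rw [hzp, ← Subgroup.subgroupOf_normalizer_eq hle, ← Subgroup.inf_subgroupOf_left]
    exact Nat.card_congr (Subgroup.subgroupOfEquivOfLe inf_le_left).toEquiv
  constructor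
  · rw [← hconv dbl dbl_mem_M22]
    refine (card_normalizer_dvd (p := 11) _ (by rw [← Subgroup.orderOf_coe]; exact orderOf_dbl)
      fun y hy => ?_).2 5 rfl (by decide) fun y h =>
        no_invert_dbl y.2.1.1 y.2.1.2 (congrArg Subtype.val h)
    obtain ⟨c, hc⟩ := eq_pow_dbl (σ := (y : Perm GolayPt)) y.2.1.1 (hy.map Spor.M22.subtype)
    exact ⟨(c : ℕ), Subtype.ext (by simpa using hc.symm)⟩
  · rw [← hconv ctw ctw_mem_M22]
    refine (card_normalizer_dvd (p := 5) _ (by rw [← Subgroup.orderOf_coe]; exact orderOf_ctw)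
      fun y hy => ?_).1
    obtain ⟨c, hc⟩ := centralizer_ctw y.2 (hy.map Spor.M22.subtype)
    exact ⟨c, Subtype.ext (by simpa using hc)⟩

theorem mem_normalizer_zpowers {G : Type*} [Group G] [Finite G] {x z : G} {k : ℕ}
    (h : z * x * z⁻¹ = x ^ k) : z ∈ Subgroup.normalizer (Subgroup.zpowers x : Set G) := by
  rw [Subgroup.mem_normalizer_iff_map_conj_eq, MonoidHom.map_zpowers]
  refine Subgroup.eq_of_le_of_card_ge ?_ ?_
  · rw [Subgroup.zpowers_le]
    exact ⟨(k : ℤ), by simpa using h.symm⟩
  · rw [Nat.card_zpowers, Nat.card_zpowers]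
    exact le_of_eq (MulEquiv.orderOf_eq (MulAut.conj z) x).symm

theorem no_subgroup_of_dbl {H : Subgroup (Perm GolayPt)} (hH : H ≤ Spor.M22) (hd : dbl ∈ H) :
    Nat.card H ≠ 7920 ∧ Nat.card H ≠ 2112 := by
  have hdvd : Nat.card H ∣ 443520 := card_M22 ▸ Subgroup.card_dvd_of_le hH
  obtain ⟨n, hn, hc⟩ := card_inf_normalizer H dbl hd orderOf_dbl
    fun h => absurd (h.trans hdvd) (by norm_num)
  have h55 := (Subgroup.card_dvd_of_le (inf_le_inf_right
    (Subgroup.normalizer (Subgroup.zpowers dbl : Set (Perm GolayPt))) hH)).trans normalizer_bounds.1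
  have h11 : 11 ∣ Nat.card (H ⊓ Subgroup.normalizer (Subgroup.zpowers dbl : Set (Perm GolayPt)) :
      Subgroup (Perm GolayPt)) := by
    rw [← orderOf_dbl, ← Nat.card_zpowers]
    exact Subgroup.card_dvd_of_le (le_inf (Subgroup.zpowers_le.2 hd) Subgroup.le_normalizer)
  obtain ⟨a, ha⟩ := h11
  rw [ha] at h55 hc
  have ha5 : a = 1 ∨ a = 5 :=
    (Nat.dvd_prime (by norm_num)).1 (Nat.dvd_of_mul_dvd_mul_left (by norm_num : 0 < 11) h55)
  refine ⟨fun h => ?_, fun h => by rw [h] at hc; rcases ha5 with rfl | rfl <;> omega⟩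
  have ha' : a = 5 := by rw [h] at hc; rcases ha5 with rfl | rfl <;> omega
  have heq := Subgroup.eq_of_le_of_card_ge (inf_le_inf_right
    (Subgroup.normalizer (Subgroup.zpowers dbl : Set (Perm GolayPt))) hH)
    (by rw [ha, ha']; exact Nat.le_of_dvd (by norm_num) normalizer_bounds.1)
  have hctw : ctw ∈ H :=
    (heq.ge ⟨ctw_mem_M22, mem_normalizer_zpowers pow22_conj.2.2.1⟩).1
  obtain ⟨m, hm, hc'⟩ := card_inf_normalizer H ctw hctw orderOf_ctw
    fun h5 => absurd (h5.trans hdvd) (by norm_num)
  have h20 := (Subgroup.card_dvd_of_le (inf_le_inf_right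
    (Subgroup.normalizer (Subgroup.zpowers ctw : Set (Perm GolayPt))) hH)).trans normalizer_bounds.2
  have h5 : 5 ∣ Nat.card (H ⊓ Subgroup.normalizer (Subgroup.zpowers ctw : Set (Perm GolayPt)) :
      Subgroup (Perm GolayPt)) := by
    rw [← orderOf_ctw, ← Nat.card_zpowers]
    exact Subgroup.card_dvd_of_le (le_inf (Subgroup.zpowers_le.2 hctw) Subgroup.le_normalizer)
  obtain ⟨b, hb⟩ := h5
  rw [hb] at h20 hc'
  have hb4 : b = 4 := by
    have hdb : b ∣ 4 := Nat.dvd_of_mul_dvd_mul_left (by norm_num : 0 < 5) h20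
    have : b ≤ 4 := Nat.le_of_dvd (by norm_num) hdb
    rw [h] at hc'
    interval_cases b <;> omega
  have heq' := Subgroup.eq_of_le_of_card_ge (inf_le_inf_right
    (Subgroup.normalizer (Subgroup.zpowers ctw : Set (Perm GolayPt))) hH)
    (by rw [hb, hb4]; exact Nat.le_of_dvd (by norm_num) normalizer_bounds.2)
  have htw : tw ∈ H := (heq'.ge ⟨tw_mem, mem_normalizer_zpowers tw_facts.1⟩).1
  have h7 := Subgroup.orderOf_dvd_natCard _ (mul_mem hd htw)
  rw [h, orderOf_eq_prime (p := 7) (hp := ⟨by norm_num⟩) tw_facts.2.1 tw_facts.2.2.1] at h7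
  norm_num at h7

theorem no_subgroup_M22 (H : Subgroup Spor.M22) : Nat.card H ≠ 7920 ∧ Nat.card H ≠ 2112 := by
  by_contra hcon
  have h11 : 11 ∣ Nat.card H := by
    rcases not_and_or.1 hcon with h | h <;> rw [not_not.1 h] <;> norm_num
  obtain ⟨y, hy⟩ := exists_prime_orderOf_dvd_card' 11 h11
  have hfac : (Nat.card Spor.M22).factorization 11 = 1 := by
    rw [card_M22]
    refine le_antisymm ?_ ?_
    · by_contra hne
      have := ((show Nat.Prime 11 by norm_num).pow_dvd_iff_le_factorization
        (show (443520 : ℕ) ≠ 0 by norm_num)).2 (show 2 ≤ _ by omega)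
      norm_num at this
    · exact ((show Nat.Prime 11 by norm_num).dvd_iff_one_le_factorization (by norm_num)).1 (by norm_num)
  set d : Spor.M22 := ⟨dbl, dbl_mem_M22⟩ with hd
  let P : Sylow 11 Spor.M22 := Sylow.ofCard (Subgroup.zpowers (y : Spor.M22))
    (by rw [Nat.card_zpowers, Subgroup.orderOf_coe, hy, hfac, pow_one])
  let Q : Sylow 11 Spor.M22 := Sylow.ofCard (Subgroup.zpowers d)
    (by rw [Nat.card_zpowers, hd, ← Subgroup.orderOf_coe, hfac, pow_one]; exact orderOf_dbl)
  obtain ⟨k, hk⟩ := MulAction.exists_smul_eq Spor.M22 P Q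
  have hkd : d ∈ H.map (MulAut.conj k).toMonoidHom := by
    have h1 : d ∈ (k • P : Sylow 11 Spor.M22).toSubgroup := by
      rw [hk]; exact Subgroup.mem_zpowers d
    rw [Sylow.smul_def, Sylow.pointwise_smul_def] at h1
    refine Subgroup.map_mono ?_ h1
    exact Subgroup.zpowers_le.2 y.2
  have key := no_subgroup_of_dbl
    (H := (H.map (MulAut.conj k).toMonoidHom).map Spor.M22.subtype)
    (Subgroup.map_subtype_le _) ⟨d, hkd, rfl⟩
  rw [Subgroup.card_map_of_injective Spor.M22.subtype_injective,
    Subgroup.card_map_of_injective (MulAut.conj k).injective] at key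
  exact hcon key

end Cfsg.Agent.Lib.MathieuMax
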