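import Cfsg.Agent.Lib.MathieuMax.Basic
import Cfsg.Agent.Lib.Compute.M23Syl2
import Cfsg.Agent.Lib.Golay.Pointed
import Cfsg.Agent.Lib.Golay.SmallSets
import Cfsg.Agent.S0376

/-!
# Subgroups of order 40320 of the group of degree 23
-/

set_option autoImplicit false

namespace Cfsg.Agent.Lib.MathieuMax

open Cfsg Equiv Cfsg.Agent.Lib.Compute Cfsg.Agent.Lib.GolayOrbit
open scoped Pointwise

/-- The points reached from `l` in at most `k` steps. -/
def reachPts (gens : List ℕ) : ℕ → List ℕ → List ℕ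
  | 0, l => l
  | k + 1, l => reachPts gens k ((l ++ gens.flatMap fun g => l.map (app g)).eraseDups)

theorem reachPts_spec {gens : List ℕ} {Q : ℕ → Prop} (hQ : ∀ g ∈ gens, ∀ j, Q j → Q (app g j)) :
    ∀ {k : ℕ} {l : List ℕ}, (∀ j ∈ l, Q j) → ∀ j ∈ reachPts gens k l, Q j
  | 0, _, h => h
  | k + 1, l, h => reachPts_spec hQ (k := k) fun j hj => by
      rw [List.mem_eraseDups, List.mem_append, List.mem_flatMap] at hj
      rcases hj with hj | ⟨g, hg, hj⟩
      · exact h j hj
      · obtain ⟨i, hi, rfl⟩ := List.mem_map.1 hj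
        exact hQ g hg i (h i hi)

/-- The generators of the Sylow 2-subgroup. -/
def sylGens : List ℕ := m23Syl20.gens.map Prod.fst

/-- Representatives of the orbits of the Sylow 2-subgroup. -/
def sylRep (i : ℕ) : ℕ :=
  if i = 0 then 0 else if i = 16 then 16 else if i = 6 ∨ i = 21 then 6
  else if i = 7 ∨ i = 14 ∨ i = 18 ∨ i = 20 then 7 else 1

theorem sylRep_reach : ∀ i : Fin 24, (i : ℕ) ∈ reachPts sylGens 4 [sylRep i] := by decide +kernel

theorem presGens_syl : presGens m23Syl2 = true := by decide +kernel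

theorem sylGens_fix : ∀ g ∈ sylGens, app g 0 = 0 := by decide +kernel

theorem chk_syl : chk 24 m23Syl2 = true := by decide +kernel

theorem card_syl : Nat.card (gpGrp m23Syl2) = 128 := by
  rw [card_gpGrp chk_syl]; decide +kernel

theorem syl_le : gpGrp m23Syl2 ≤ M24 ⊓ MulAction.stabilizer (Perm GolayPt) (enc.symm 0) := by
  refine le_inf ?_ ?_
  · rw [gpGrp]
    exact (Subgroup.map_mono (grp_le_K24 presGens_syl)).trans (Subgroup.map_comap_le _ _)
  · rw [gpGrp, Subgroup.map_le_iff_le_comap]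
    show Subgroup.closure ((fun g => toPerm 24 g.1) '' {g | g ∈ m23Syl20.gens}) ≤ _
    rw [Subgroup.closure_le]
    rintro _ ⟨g, hg, rfl⟩
    have hm : g.1 ∈ sylGens := List.mem_map_of_mem hg
    obtain ⟨hv, -⟩ := valid_gensOf chk_syl (P := g.1) hm
    show toGP (toPerm 24 g.1) (enc.symm 0) = enc.symm 0
    rw [toGP_apply, Equiv.apply_symm_apply]
    congr 1
    exact Fin.ext ((hv.repr 0).trans (sylGens_fix g.1 hm))

/-- A set kept by `H ⊇` the Sylow subgroup is a union of its orbits. -/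
theorem mem_rep {H : Subgroup (Perm GolayPt)} (hP : gpGrp m23Syl2 ≤ H) {O : Finset GolayPt}
    (hO : ∀ σ ∈ H, σ • O = O) (i : Fin 24) :
    enc.symm i ∈ O ↔ enc.symm (Fin.ofNat 24 (sylRep i)) ∈ O := by
  have hrep : sylRep i < 24 := by unfold sylRep; split_ifs <;> omega
  have key := reachPts_spec (gens := sylGens)
    (Q := fun j => ∃ h : j < 24, enc.symm ⟨j, h⟩ ∈ O ↔ enc.symm ⟨sylRep i, hrep⟩ ∈ O)
    ?_ (k := 4) (l := [sylRep i]) (by simp [hrep]) (i : ℕ) (sylRep_reach i)
  · obtain ⟨_, h⟩ := key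
    rw [show Fin.ofNat 24 (sylRep i) = (⟨sylRep i, hrep⟩ : Fin 24) from
      Fin.ext (Nat.mod_eq_of_lt hrep)]
    exact h
  rintro g hg j ⟨hlt, hj⟩
  obtain ⟨hv, hmem⟩ := valid_gensOf chk_syl (P := g) hg
  have happ := hv.repr ⟨j, hlt⟩
  refine ⟨happ ▸ (toPerm 24 g ⟨j, hlt⟩).isLt, ?_⟩
  rw [← hj]
  set σ := toGP (toPerm 24 g) with hσ
  have h2 := smul_mem_smul_pt σ (enc.symm ⟨j, hlt⟩) O
  rw [hO σ (hP hmem), hσ, toGP_apply, Equiv.apply_symm_apply] at h2
  rw [← h2]
  exact iff_of_eq (congrArg (fun q => enc.symm q ∈ O) (Fin.ext happ.symm))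

/-- A stabiliser is small when the orbit is large. -/
theorem card_stabilizer_mul_le {G α : Type*} [Group G] [Finite G] [MulAction G α] (a : α)
    (T : Finset α) (h : ∀ y ∈ T, ∃ g : G, g • a = y) :
    Nat.card (MulAction.stabilizer G a) * T.card ≤ Nat.card G := by
  rw [← Subgroup.card_mul_index (MulAction.stabilizer G a), MulAction.index_stabilizer]
  refine Nat.mul_le_mul_left _ ?_
  rw [← Set.ncard_coe_finset]
  exact Set.ncard_le_ncard (fun y hy => h y hy) (Set.finite_range _)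

theorem card_stabilizer_four {A : Finset GolayPt} (hA : A.card = 4) :
    Nat.card (MulAction.stabilizer M24 A) ≤ 23040 := by
  have h := card_stabilizer_mul_le (G := M24) A ((Finset.univ : Finset GolayPt).powersetCard 4)
    fun y hy => by
      obtain ⟨g, hg, e⟩ := exists_smul_small
        (hA.trans (Finset.mem_powersetCard.1 hy).2.symm) (by omega)
      exact ⟨⟨g, hg⟩, e⟩
  rw [Finset.card_powersetCard, card_M24, show (Finset.univ : Finset GolayPt).card = 24 from rfl,
    show Nat.choose 24 4 = 10626 from by decide +kernel] at h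
  omega

/-- The possible orbits of the point 1. -/
def orbMask (a b c : Bool) : ℕ :=
  0x1000000 - 1 - 0x3540c1 + (bif a then 2 ^ 16 else 0) + (bif b then 2 ^ 6 + 2 ^ 21 else 0) +
    (bif c then 2 ^ 7 + 2 ^ 14 + 2 ^ 18 + 2 ^ 20 else 0)

theorem orbMask_bit : ∀ a b c : Bool, ∀ i : Fin 24,
    ((sylRep i = 0 ∧ (orbMask a b c).testBit i = false) ∨
      (sylRep i = 1 ∧ (orbMask a b c).testBit i = true) ∨
      (sylRep i = 16 ∧ (orbMask a b c).testBit i = a) ∨
      (sylRep i = 6 ∧ (orbMask a b c).testBit i = b) ∨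
      (sylRep i = 7 ∧ (orbMask a b c).testBit i = c)) := by decide +kernel

theorem orbMask_cases : ∀ a b c : Bool,
    40320 % pop (orbMask a b c) ≠ 0 ∨
    pop (orbMask a b c ^^^ 16777215) = 4 ∨
    (pop ((orbMask a b c ^^^ 16777215) &&& (16777215 - 1)) = 2) ∨
    (5 ≤ pop (orbMask a b c ^^^ 16777215) ∧
      (orbMask a b c ^^^ 16777215) &&& 0x3540c1 = (orbMask a b c ^^^ 16777215)) := by decide +kernel

theorem octMask_spec : inCode 0x3540c1 = true ∧ pop 0x3540c1 = 8 ∧
    Nat.testBit 0x3540c1 0 = true := by decide +kernel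

theorem invariant_set {H : Subgroup (Perm GolayPt)}
    (hH : H ≤ M24 ⊓ MulAction.stabilizer (Perm GolayPt) (enc.symm 0))
    (hP : gpGrp m23Syl2 ≤ H) (hc : Nat.card H = 40320) :
    ∃ A : Finset GolayPt, ((A.card = 2 ∧ enc.symm 0 ∉ A) ∨ (A ∈ octads ∧ enc.symm 0 ∈ A)) ∧
      ∀ σ ∈ H, σ • A = A := by
  classical
  have hx0 : ∀ σ ∈ H, σ (enc.symm 0) = enc.symm 0 := fun σ hσ => (hH hσ).2
  set O : Finset GolayPt := (MulAction.orbit H (enc.symm (1 : Fin 24))).toFinset with hO
  have hOinv : ∀ σ ∈ H, σ • O = O := by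
    intro σ hσ
    ext q
    rw [← Finset.inv_smul_mem_iff, hO, Set.mem_toFinset, Set.mem_toFinset]
    constructor
    · rintro ⟨τ, hτ⟩
      exact ⟨⟨σ, hσ⟩ * τ, by
        show (σ * (τ : Perm GolayPt)) • enc.symm (1 : Fin 24) = q
        rw [mul_smul, show (τ : Perm GolayPt) • enc.symm (1 : Fin 24) = σ⁻¹ • q from hτ,
          smul_inv_smul]⟩
    · rintro ⟨τ, rfl⟩
      exact ⟨⟨σ, hσ⟩⁻¹ * τ, mul_smul _ _ _⟩
  have hdvd : O.card ∣ 40320 := by
    rw [← hc, hO, ← Set.ncard_eq_toFinset_card', ← MulAction.index_stabilizer]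
    exact Subgroup.index_dvd_card _
  have h0 : enc.symm (0 : Fin 24) ∉ O := by
    rw [hO, Set.mem_toFinset]
    rintro ⟨τ, hτ⟩
    have h1 : (τ : Perm GolayPt) (enc.symm 1) = (τ : Perm GolayPt) (enc.symm 0) :=
      (show (τ : Perm GolayPt) (enc.symm 1) = enc.symm 0 from hτ).trans (hx0 _ τ.2).symm
    exact absurd (enc.symm.injective ((τ : Perm GolayPt).injective h1)) (by decide)
  have h1 : enc.symm (1 : Fin 24) ∈ O := by rw [hO, Set.mem_toFinset]; exact MulAction.mem_orbit_self _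
  set a := decide (enc.symm (16 : Fin 24) ∈ O) with ha
  set b := decide (enc.symm (6 : Fin 24) ∈ O) with hb
  set c := decide (enc.symm (7 : Fin 24) ∈ O) with hc'
  have heq : O = setOf24 (orbMask a b c) := by
    ext p
    obtain ⟨i, rfl⟩ : ∃ i, p = enc.symm i := ⟨enc p, (enc.symm_apply_apply p).symm⟩
    rw [mem_setOf24, Equiv.apply_symm_apply, mem_rep hP hOinv i]
    rcases orbMask_bit a b c i with ⟨r, e⟩ | ⟨r, e⟩ | ⟨r, e⟩ | ⟨r, e⟩ | ⟨r, e⟩ <;> rw [r, e]
    · exact iff_of_false h0 (by simp)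
    · exact iff_of_true h1 rfl
    all_goals simp [ha, hb, hc']
  set W : Finset GolayPt := Oᶜ with hW
  have hWinv : ∀ σ ∈ H, σ • W = W := by
    intro σ hσ
    rw [hW]
    ext q
    rw [← Finset.inv_smul_mem_iff, Finset.mem_compl, Finset.mem_compl, not_iff_not]
    conv_rhs => rw [← hOinv σ hσ]
    exact Finset.inv_smul_mem_iff
  have hWeq : W = setOf24 (orbMask a b c ^^^ 16777215) := by rw [hW, heq, setOf24_compl]
  have hW0 : enc.symm 0 ∈ W := Finset.mem_compl.2 h0
  rcases orbMask_cases a b c with h | h | h | ⟨h5, hsub⟩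
  · rw [heq, card_setOf24] at hdvd
    exact absurd (Nat.mod_eq_zero_of_dvd hdvd) h
  · exfalso
    have hle : H.subgroupOf M24 ≤ MulAction.stabilizer M24 W := fun σ hσ => hWinv _ hσ
    have h2 := (Subgroup.card_le_of_le hle).trans (card_stabilizer_four (by rw [hWeq, card_setOf24, h]))
    rw [Nat.card_congr (Subgroup.subgroupOfEquivOfLe (hH.trans inf_le_left)).toEquiv, hc] at h2
    omega
  · refine ⟨W.erase (enc.symm 0), Or.inl ⟨?_, Finset.notMem_erase _ _⟩, fun σ hσ => ?_⟩
    · rw [show W.erase (enc.symm 0)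
          = setOf24 ((orbMask a b c ^^^ 16777215) &&& (16777215 - 1)) from ?_, card_setOf24, h]
      rw [setOf24_and, ← hWeq, show setOf24 (16777215 - 1) = {enc.symm 0}ᶜ from by decide +kernel]
      ext q; simp [and_comm]
    · ext q
      rw [← Finset.inv_smul_mem_iff, Finset.mem_erase, Finset.mem_erase,
        Finset.inv_smul_mem_iff, hWinv σ hσ]
      refine and_congr_left fun _ => not_congr ?_
      rw [inv_smul_eq_iff, Perm.smul_def, hx0 σ hσ]
  · set o := setOf24 0x3540c1 with ho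
    have hoct : o ∈ octads := setOf24_mem_octads octMask_spec.1 octMask_spec.2.1
    have hWo : W ⊆ o := by
      rw [hWeq, ← hsub, setOf24_and]; exact Finset.inter_subset_right
    refine ⟨o, Or.inr ⟨hoct, hWo hW0⟩, fun σ hσ => ?_⟩
    refine octad_eq_of_five (smul_mem_octads (hH hσ).1 hoct) hoct ?_
    calc 5 ≤ W.card := by rw [hWeq, card_setOf24]; exact h5
      _ ≤ _ := Finset.card_le_card (Finset.subset_inter
          ((hWinv σ hσ).symm.le.trans (Finset.smul_finset_subset_smul_finset hWo)) hWo)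

theorem card_stabilizer_mul_ncard_le {G α : Type*} [Group G] [Finite G] [MulAction G α] (a : α)
    (T : Set α) (h : ∀ y ∈ T, ∃ g : G, g • a = y) :
    Nat.card (MulAction.stabilizer G a) * T.ncard ≤ Nat.card G := by
  rw [← Subgroup.card_mul_index (MulAction.stabilizer G a), MulAction.index_stabilizer]
  exact Nat.mul_le_mul_left _ (Set.ncard_le_ncard (fun y hy => h y hy) (Set.finite_range _))

/-- The two structures fixed by subgroups of order 40320 of a point stabiliser. -/
def PairOrOctad (x : GolayPt) (A : Finset GolayPt) : Prop :=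
  (A.card = 2 ∧ x ∉ A) ∨ (A ∈ octads ∧ x ∈ A)

theorem PairOrOctad.smul {g : Perm GolayPt} (hg : g ∈ M24) {x : GolayPt} {A : Finset GolayPt}
    (h : PairOrOctad x A) : PairOrOctad (g x) (g • A) := by
  rcases h with ⟨h2, hx⟩ | ⟨ho, hx⟩
  · exact Or.inl ⟨by rw [Finset.card_smul_finset]; exact h2, by rwa [smul_mem_smul_pt]⟩
  · exact Or.inr ⟨smul_mem_octads hg ho, by rwa [smul_mem_smul_pt]⟩

theorem ncard_octads_through (x : GolayPt) : {o | o ∈ octads ∧ x ∈ o}.ncard = 253 := by
  obtain ⟨g, hg, hgx⟩ := exists_smul_small (s := {x}) (t := {pointCoding.dec octIn0}) rfl (by simp)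
  have hgx' : g x = pointCoding.dec octIn0 := by simpa using hgx
  rw [ncard_transport g _ (fun o => o ∈ octads ∧ pointCoding.dec octIn0 ∈ o) (fun o => by
      rw [mem_octads_smul_iff hg, ← hgx', smul_mem_smul_pt]),
    ncard_octads_filter (fun o => pointCoding.dec octIn0 ∈ o) (fun m => m.testBit octIn0)
      (fun m _ => dec_mem_setOf24 (by decide +kernel))]
  decide +kernel

/-- The stabiliser of such a structure has order at most 40320. -/
theorem card_stabilizer_le {x : GolayPt} {A : Finset GolayPt} (hA : PairOrOctad x A) :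
    Nat.card (MulAction.stabilizer (MulAction.stabilizer M24 x) A) ≤ 40320 := by
  classical
  rcases hA with ⟨h2, hx⟩ | ⟨ho, hx⟩
  · have h := card_stabilizer_mul_ncard_le (G := MulAction.stabilizer M24 x) A
      (((Finset.univ.erase x).powersetCard 2 : Finset (Finset GolayPt)) : Set (Finset GolayPt))
      fun y hy => by
        rw [Finset.mem_coe, Finset.mem_powersetCard] at hy
        obtain ⟨a, b, hab, rfl⟩ := Finset.card_eq_two.1 h2
        obtain ⟨c, d, hcd, rfl⟩ := Finset.card_eq_two.1 hy.2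
        simp only [Finset.mem_insert, Finset.mem_singleton, not_or] at hx
        have hc := (Finset.mem_erase.1 (hy.1 (Finset.mem_insert_self c _))).1
        have hd := (Finset.mem_erase.1 (hy.1 (Finset.mem_insert_of_mem
          (Finset.mem_singleton_self d)))).1
        obtain ⟨g, e0, e1, e2⟩ := exists_smul_three hx.1 hx.2 hab
        obtain ⟨g', f0, f1, f2⟩ := exists_smul_three hc.symm hd.symm hcd
        have ea : (g' * g⁻¹) • a = c := by rw [mul_smul, ← e1, inv_smul_smul, f1]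
        have eb : (g' * g⁻¹) • b = d := by rw [mul_smul, ← e2, inv_smul_smul, f2]
        refine ⟨⟨g' * g⁻¹, by rw [MulAction.mem_stabilizer_iff, mul_smul,
          show g⁻¹ • x = enc.symm 0 from by rw [← e0, inv_smul_smul], f0]⟩, ?_⟩
        show ((g' * g⁻¹ : M24) : Perm GolayPt) • ({a, b} : Finset GolayPt) = {c, d}
        rw [Finset.smul_finset_insert, Finset.smul_finset_singleton]
        rw [show ((g' * g⁻¹ : M24) : Perm GolayPt) • a = c from ea,
          show ((g' * g⁻¹ : M24) : Perm GolayPt) • b = d from eb]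
    rw [Set.ncard_coe_finset, Finset.card_powersetCard, Finset.card_erase_of_mem (Finset.mem_univ x),
      show (Finset.univ : Finset GolayPt).card - 1 = 23 from rfl,
      show Nat.choose 23 2 = 253 from by decide +kernel, Cfsg.Agent.S0376.result x] at h
    omega
  · have h := card_stabilizer_mul_ncard_le (G := MulAction.stabilizer M24 x) A
      {o | o ∈ octads ∧ x ∈ o} fun y hy => by
        obtain ⟨g, hg, hgo, hgx⟩ := exists_to_octPt ho hx
        obtain ⟨g', hg', hgo', hgx'⟩ := exists_to_octPt hy.1 hy.2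
        refine ⟨⟨⟨g'⁻¹ * g, mul_mem (inv_mem hg') hg⟩, ?_⟩, ?_⟩
        · show (g'⁻¹ * g) • x = x
          rw [mul_smul, Perm.smul_def g x, hgx, ← hgx', ← Perm.smul_def g' x, inv_smul_smul]
        · show (g'⁻¹ * g) • A = y
          rw [mul_smul, hgo, ← hgo', inv_smul_smul]
    rw [ncard_octads_through, Cfsg.Agent.S0376.result x] at h
    omega

/-- A subgroup of order 40320 fixing a point fixes such a structure. -/
theorem exists_pairOrOctad {x : GolayPt} {H : Subgroup (Perm GolayPt)}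
    (hH : H ≤ M24 ⊓ MulAction.stabilizer (Perm GolayPt) x) (hc : Nat.card H = 40320) :
    ∃ A, PairOrOctad x A ∧ ∀ σ ∈ H, σ • A = A := by
  set x0 : GolayPt := enc.symm 0 with hx0
  set G0 := M24 ⊓ MulAction.stabilizer (Perm GolayPt) x0 with hG0
  obtain ⟨g, hg, hgx⟩ := exists_smul_small (s := {x}) (t := {x0}) rfl (by simp)
  have hgx' : g x = x0 := by simpa using hgx
  set H1 := H.map (MulAut.conj g).toMonoidHom with hH1
  have hH1le : H1 ≤ G0 := by
    rintro _ ⟨σ, hσ, rfl⟩
    refine ⟨M24.mul_mem (M24.mul_mem hg (hH hσ).1) (M24.inv_mem hg), ?_⟩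
    show (g * σ * g⁻¹) • x0 = x0
    rw [mul_smul, mul_smul, ← hgx', ← Perm.smul_def g x, inv_smul_smul,
      show σ • x = x from (hH hσ).2]
  have hc1 : Nat.card H1 = 40320 := by
    rw [hH1, Subgroup.card_map_of_injective (MulAut.conj g).injective, hc]
  have hcG : Nat.card G0 = 10200960 := by
    rw [← Cfsg.Agent.S0376.result x0]
    exact Nat.card_congr
      { toFun := fun σ => ⟨⟨σ.1, σ.2.1⟩, σ.2.2⟩
        invFun := fun σ => ⟨σ.1.1, σ.1.2, σ.2⟩
        left_inv := fun _ => rfl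
        right_inv := fun _ => rfl }
  have : Fact (Nat.Prime 2) := ⟨Nat.prime_two⟩
  have hfac : ∀ n, n = 10200960 ∨ n = 40320 → n.factorization 2 = 7 := by
    intro n hn
    have h0 : n ≠ 0 := by omega
    have h7 : 7 ≤ n.factorization 2 :=
      (Nat.prime_two.pow_dvd_iff_le_factorization h0).1 (by rcases hn with rfl | rfl <;> norm_num)
    by_contra hne
    have h8 : 2 ^ 8 ∣ n := (Nat.prime_two.pow_dvd_iff_le_factorization h0).2 (by omega)
    rcases hn with rfl | rfl <;> norm_num at h8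
  let Q : Sylow 2 (H1.subgroupOf G0) := default
  have hQc : Nat.card Q = 2 ^ 7 := by
    rw [Sylow.card_eq_multiplicity,
      Nat.card_congr (Subgroup.subgroupOfEquivOfLe hH1le).toEquiv, hc1, hfac _ (Or.inr rfl)]
  let QG : Sylow 2 G0 := Sylow.ofCard ((Q : Subgroup (H1.subgroupOf G0)).map (H1.subgroupOf G0).subtype)
    (by rw [Subgroup.card_map_of_injective (Subgroup.subtype_injective _), hcG, hfac _ (Or.inl rfl)]
        exact hQc)
  let PG : Sylow 2 G0 := Sylow.ofCard ((gpGrp m23Syl2).subgroupOf G0)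
    (by rw [Nat.card_congr (Subgroup.subgroupOfEquivOfLe syl_le).toEquiv, card_syl, hcG,
      hfac _ (Or.inl rfl)]; rfl)
  obtain ⟨k, hk⟩ := MulAction.exists_smul_eq G0 PG QG
  set H2 := H1.map (MulAut.conj (k : Perm GolayPt)⁻¹).toMonoidHom with hH2
  have hP : gpGrp m23Syl2 ≤ H2 := by
    intro p hp
    have h1 : MulAut.conj k ⟨p, syl_le hp⟩ ∈ (k • PG : Sylow 2 G0).toSubgroup := by
      rw [Sylow.smul_def, Sylow.pointwise_smul_def]
      exact Subgroup.mem_map_of_mem _ (show (⟨p, syl_le hp⟩ : G0) ∈ _ from hp)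
    rw [hk] at h1
    obtain ⟨y, -, hy⟩ := h1
    refine ⟨(k : Perm GolayPt) * p * (k : Perm GolayPt)⁻¹, ?_, by simp [mul_assoc]⟩
    have h2 : ((y : G0) : Perm GolayPt) = (k : Perm GolayPt) * p * (k : Perm GolayPt)⁻¹ :=
      congrArg Subtype.val hy
    exact h2 ▸ y.2
  have hH2le : H2 ≤ G0 := by
    rintro _ ⟨σ, hσ, rfl⟩
    exact mul_mem (mul_mem (inv_mem k.2) (hH1le hσ)) (inv_mem (inv_mem k.2))
  obtain ⟨A, hA, hfix⟩ := invariant_set hH2le hP
    (by rw [hH2, Subgroup.card_map_of_injective (MulAut.conj _).injective, hc1])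
  refine ⟨(g⁻¹ * (k : Perm GolayPt)) • A, ?_, fun σ hσ => ?_⟩
  · have := PairOrOctad.smul (mul_mem (inv_mem hg) k.2.1) (show PairOrOctad x0 A from hA)
    rwa [Perm.mul_apply, show (k : Perm GolayPt) x0 = x0 from k.2.2, ← hgx',
      ← Perm.smul_def g x, ← Perm.smul_def g⁻¹ (g • x), inv_smul_smul] at this
  · have h := hfix _ ⟨_, ⟨σ, hσ, rfl⟩, rfl⟩
    simp only [MulEquiv.coe_toMonoidHom, MulAut.conj_apply, inv_inv, mul_smul] at h
    rw [mul_smul]
    have h' := congrArg (fun B => g⁻¹ • (k : Perm GolayPt) • B) h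
    simpa using h'

end Cfsg.Agent.Lib.MathieuMax
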