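import Cfsg.Agent.Lib.MathieuMax.M23Sub

/-!
# Invariant sets of the Sylow 2-subgroup of the point stabiliser and of its point stabilisers
-/

set_option autoImplicit false

namespace Cfsg.Agent.Lib.MathieuMax

open Cfsg Equiv Cfsg.Agent.Lib.Compute Cfsg.Agent.Lib.GolayOrbit
open scoped Pointwise

/-- The points reached from `l` in at most `k` steps by the maps `fs`. -/
def reachF (fs : List (ℕ → ℕ)) : ℕ → List ℕ → List ℕ
  | 0, l => l
  | k + 1, l => reachF fs k ((l ++ fs.flatMap fun f => l.map f).eraseDups)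

theorem reachF_spec {fs : List (ℕ → ℕ)} {Q : ℕ → Prop} (hQ : ∀ f ∈ fs, ∀ j, Q j → Q (f j)) :
    ∀ {k : ℕ} {l : List ℕ}, (∀ j ∈ l, Q j) → ∀ j ∈ reachF fs k l, Q j
  | 0, _, h => h
  | k + 1, l, h => reachF_spec hQ (k := k) fun j hj => by
      rw [List.mem_eraseDups, List.mem_append, List.mem_flatMap] at hj
      rcases hj with hj | ⟨g, hg, hj⟩
      · exact h j hj
      · obtain ⟨i, hi, rfl⟩ := List.mem_map.1 hj
        exact hQ g hg i (h i hi)

/-- The point numbered `i`. -/
def pt (i : ℕ) : GolayPt := enc.symm (Fin.ofNat 24 i)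

theorem enc_pt {i : ℕ} (h : i < 24) : ((enc (pt i) : Fin 24) : ℕ) = i := by
  rw [pt, Equiv.apply_symm_apply]; exact Nat.mod_eq_of_lt h

theorem pt_enc (p : GolayPt) : pt (enc p : Fin 24) = p := by
  rw [pt, show Fin.ofNat 24 ((enc p : Fin 24) : ℕ) = enc p from
    Fin.ext (Nat.mod_eq_of_lt (enc p).isLt), Equiv.symm_apply_apply]

theorem pt_mem_setOf24 {i m : ℕ} (h : i < 24) : pt i ∈ setOf24 m ↔ m.testBit i = true := by
  rw [mem_setOf24, enc_pt h]

/-- A permutation acting as `f` on numbers. -/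
def ActsAs (σ : Perm GolayPt) (f : ℕ → ℕ) : Prop :=
  ∀ p : GolayPt, ((enc (σ p) : Fin 24) : ℕ) = f (enc p : Fin 24)

theorem ActsAs.one : ActsAs 1 id := fun _ => rfl

theorem ActsAs.mul {σ τ : Perm GolayPt} {f g : ℕ → ℕ} (hσ : ActsAs σ f) (hτ : ActsAs τ g) :
    ActsAs (σ * τ) (f ∘ g) := fun p => by
  rw [Perm.mul_apply, hσ, hτ, Function.comp_apply]

/-- The union of some of the masks. -/
def subsOr : List ℕ → List ℕ
  | [] => [0]
  | u :: l => subsOr l ++ (subsOr l).map (u ||| ·)

theorem foldr_filter_mem (us : List ℕ) (p : ℕ → Bool) :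
    (us.filter p).foldr (· ||| ·) 0 ∈ subsOr us := by
  induction us with
  | nil => simp [subsOr]
  | cons u l ih =>
    rw [subsOr, List.mem_append, List.filter_cons]
    split
    · exact Or.inr (List.mem_map.2 ⟨_, ih, rfl⟩)
    · exact Or.inl ih

theorem testBit_foldr_or (us : List ℕ) (i : ℕ) :
    (us.foldr (· ||| ·) 0).testBit i = true ↔ ∃ u ∈ us, u.testBit i = true := by
  induction us with
  | nil => simp
  | cons u l ih => simp [Nat.testBit_or, ih]

/-- The least point of a mask. -/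
def low (u : ℕ) : ℕ := ((List.range 24).find? fun i => u.testBit i).getD 0

/-- Check that the masks are the orbits of the maps. -/
def orbsOk (fs : List (ℕ → ℕ)) (us : List ℕ) : Bool :=
  (List.range 24).all (fun i => us.any fun u => u.testBit i) &&
    us.all (fun u => decide (low u < 24) &&
      (List.range 24).all fun i => !u.testBit i || (reachF fs 8 [low u]).contains i)

/-- A set kept by the maps is a union of their orbits. -/
theorem invariant_eq {us : List ℕ} {fs : List (ℕ → ℕ)} (hok : orbsOk fs us = true)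
    {A : Finset GolayPt} (hA : ∀ f ∈ fs, ∃ σ : Perm GolayPt, ActsAs σ f ∧ σ • A = A) :
    ∃ m ∈ subsOr us, A = setOf24 m := by
  classical
  simp only [orbsOk, Bool.and_eq_true, List.all_eq_true, List.mem_range, List.any_eq_true,
    decide_eq_true_eq, Bool.or_eq_true, List.contains_iff_mem,
    Bool.not_eq_true'] at hok
  obtain ⟨hcov, hreach⟩ := hok
  have key : ∀ u ∈ us, ∀ i < 24, u.testBit i = true → (pt i ∈ A ↔ pt (low u) ∈ A) := by
    intro u hu i hi hb
    obtain ⟨hlow, hr⟩ := hreach u hu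
    rcases hr i hi with h | h
    · rw [h] at hb; cases hb
    · refine (reachF_spec (Q := fun j => j < 24 ∧ (pt j ∈ A ↔ pt (low u) ∈ A)) ?_
        (fun j hj => ?_) i h).2
      · intro f hf j hj
        obtain ⟨σ, hσ, hσA⟩ := hA f hf
        have h1 : ((enc (σ (pt j)) : Fin 24) : ℕ) = f j := by rw [hσ, enc_pt hj.1]
        refine ⟨h1 ▸ (enc _).isLt, ?_⟩
        rw [← hj.2, ← h1, pt_enc]
        conv_lhs => rw [← hσA]
        exact smul_mem_smul_pt _ _ _
      · rw [List.mem_singleton] at hj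
        subst hj
        exact ⟨hlow, Iff.rfl⟩
  refine ⟨_, foldr_filter_mem us (fun u => decide (pt (low u) ∈ A)), ?_⟩
  ext p
  rw [mem_setOf24, testBit_foldr_or]
  constructor
  · intro hp
    obtain ⟨u, hu, hb⟩ := hcov _ (enc p).isLt
    refine ⟨u, List.mem_filter.2 ⟨hu, ?_⟩, hb⟩
    rw [decide_eq_true_eq, ← key u hu _ (enc p).isLt hb, pt_enc]
    exact hp
  · rintro ⟨u, hu, hb⟩
    rw [List.mem_filter, decide_eq_true_eq] at hu
    have h := (key u hu.1 _ (enc p).isLt hb).2 hu.2
    rwa [pt_enc] at h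

/-- The action of a word in the generators on numbers. -/
def wordMap (w : List ℕ) : ℕ → ℕ := (w.map fun k => app (sylGens.getD k 0)).foldr (· ∘ ·) id

theorem wordMap_acts : ∀ (w : List ℕ), w.all (· < 3) = true →
    ∃ σ ∈ gpGrp m23Syl2, ActsAs σ (wordMap w)
  | [], _ => ⟨1, one_mem _, ActsAs.one⟩
  | k :: w, h => by
    rw [List.all_cons, Bool.and_eq_true, decide_eq_true_eq] at h
    obtain ⟨τ, hτ, hacts⟩ := wordMap_acts w h.2
    have hk : ∀ j : Fin 3, sylGens.getD j 0 ∈ gensOf m23Syl2 := by decide +kernel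
    obtain ⟨hv, hmem⟩ := valid_gensOf chk_syl (hk ⟨k, h.1⟩)
    refine ⟨_, mul_mem hmem hτ, ?_⟩
    have hg : ActsAs (toGP (toPerm 24 (sylGens.getD k 0))) (app (sylGens.getD k 0)) := fun p => by
      rw [toGP_apply, Equiv.apply_symm_apply]
      exact hv.repr _
    exact ActsAs.mul (f := app (sylGens.getD k 0)) (g := wordMap w) hg hacts

/-- Words generating a subgroup fixing a point, and its orbits. -/
def fixData (y : ℕ) : List (List ℕ) × List ℕ :=
  if y = 6 ∨ y = 21 then
    ([[1, 2], [0, 2], [1, 1]], [0x1, 0xcabf3e, 0x40, 0x144080, 0x10000, 0x200000])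
  else if y = 7 ∨ y = 14 then
    ([[0], [1, 0, 2], [1, 0, 1], [1, 1, 2, 1]],
      [0x1, 0xcabf3e, 0x200040, 0x80, 0x4000, 0x10000, 0x140000])
  else if y = 18 ∨ y = 20 then
    ([[1, 2, 0], [2, 1, 0], [0, 2, 1]],
      [0x1, 0xcabf3e, 0x200040, 0x4080, 0x10000, 0x40000, 0x100000])
  else ([[0], [1], [2]], [0x1, 0xcabf3e, 0x200040, 0x144080, 0x10000])

/-- The points with data. -/
def fixPts : List ℕ := [0, 16, 6, 21, 7, 14, 18, 20]

theorem fixData_ok : fixPts.all (fun y => (fixData y).1.all (fun w => w.all (· < 3) &&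
    (wordMap w y == y)) && orbsOk ((fixData y).1.map wordMap) (fixData y).2) = true := by
  decide +kernel

/-- A set kept by the elements of the Sylow subgroup that fix `y`. -/
theorem fixed_invariant_eq {y : ℕ} (hy : y ∈ fixPts) {A : Finset GolayPt}
    (hA : ∀ σ ∈ gpGrp m23Syl2, σ (pt y) = pt y → σ • A = A) :
    ∃ m ∈ subsOr (fixData y).2, A = setOf24 m := by
  have h := List.all_eq_true.1 fixData_ok y hy
  simp only [Bool.and_eq_true, List.all_eq_true, beq_iff_eq] at h
  obtain ⟨hw, hok⟩ := h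
  refine invariant_eq hok fun f hf => ?_
  obtain ⟨w, hwm, rfl⟩ := List.mem_map.1 hf
  obtain ⟨hw3, hwy⟩ := hw w hwm
  obtain ⟨σ, hσ, hacts⟩ := wordMap_acts w (List.all_eq_true.2 hw3)
  have hy24 : y < 24 := by
    have : ∀ z ∈ fixPts, z < 24 := by decide +kernel
    exact this y hy
  refine ⟨σ, hacts, hA σ hσ ?_⟩
  have h2 := hacts (pt y)
  rw [enc_pt hy24, hwy] at h2
  conv_rhs => rw [← h2]
  rw [pt_enc]

theorem octad_fix_check : fixPts.all (fun y => (subsOr (fixData y).2).all fun m =>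
    !m.testBit y || !(pop m == 8) || !octadList.contains m || (m == 0x3540c1)) = true := by
  decide +kernel

/-- The only octad through `y` kept by the elements fixing `y`. -/
theorem octad_fix_unique {y : ℕ} (hy : y ∈ fixPts) {A : Finset GolayPt} (hoct : A ∈ octads)
    (hmem : pt y ∈ A) (hA : ∀ σ ∈ gpGrp m23Syl2, σ (pt y) = pt y → σ • A = A) :
    A = setOf24 0x3540c1 := by
  obtain ⟨m, hm, rfl⟩ := fixed_invariant_eq hy hA
  have hy24 : y < 24 := by
    have : ∀ z ∈ fixPts, z < 24 := by decide +kernel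
    exact this y hy
  obtain ⟨m', hm', he⟩ := exists_octad_mask hoct
  have hlt : ∀ z ∈ fixPts, ∀ k ∈ subsOr (fixData z).2, k < 2 ^ 24 := by decide +kernel
  have hlt' : ∀ k ∈ octadList, k < 2 ^ 24 := by decide +kernel
  have h8 : ∀ k ∈ octadList, pop k = 8 := by decide +kernel
  obtain rfl := setOf24_injOn (hlt' m' hm') (hlt y hy m hm) he
  have h := List.all_eq_true.1 (List.all_eq_true.1 octad_fix_check y hy) m' hm
  simp [(pt_mem_setOf24 hy24).1 hmem, h8 m' hm'] at h
  rw [h.resolve_left (not_not_intro hm')]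

theorem small_fix_check :
    ([16, 6, 21].all fun y => (subsOr (fixData y).2).all fun m =>
      !m.testBit y || !(pop m == 4) || (m == 0x210041)) = true ∧
    ((subsOr (fixData 7).2).all fun m =>
      !m.testBit 7 || !(pop m == 4) || !((m &&& 0x210041) == 0) || (m == 0x144080)) = true ∧
    ((subsOr (fixData 16).2).all fun m =>
      !m.testBit 16 || !(pop m == 3) || (m == 0x210040)) = true := by
  decide +kernel

end Cfsg.Agent.Lib.MathieuMax
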