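import Cfsg.Agent.Lib.MathieuMax.M24Sub
import Cfsg.Agent.Lib.M24Geom.OrderThree

/-!
# Subgroups of order 887040 of the group of the 24 points
-/

set_option autoImplicit false

namespace Cfsg.Agent.Lib.MathieuMax

open Cfsg Equiv Cfsg.Agent.Lib.Compute Cfsg.Agent.Lib.GolayOrbit Cfsg.Agent.Lib.MathieuOut
open scoped Pointwise

/-- The doubling map on numbers. -/
def dblMap (i : ℕ) : ℕ := (table dbl).getD i 0

theorem dblMap_acts : ActsAs dbl dblMap := by
  intro p
  rw [dblMap, table, List.getD_eq_getElem _ _ (by simp)]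
  rw [List.getElem_ofFn, Fin.eta, Equiv.symm_apply_apply]

/-- The number of the point at infinity. -/
def iInf : ℕ := (enc (none : GolayPt) : Fin 24)

/-- The number of the zero residue. -/
def iZero : ℕ := (enc (some 0 : GolayPt) : Fin 24)

/-- The orbit of a number under doubling, as a mask. -/
def dblOrb (i : ℕ) : ℕ := ((reachF [dblMap] 12 [i]).map fun j => 1 <<< j).foldr (· ||| ·) 0

/-- The orbits of the doubling map. -/
def dblOrbs : List ℕ :=
  ((List.range 24).map dblOrb).eraseDups

theorem dblOrbs_ok : orbsOk [dblMap, dblMap ∘ dblMap, dblMap ∘ dblMap ∘ dblMap] dblOrbs = true := by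
  decide +kernel

theorem dblOrbs_cases : (subsOr dblOrbs).all (fun m =>
    !m.testBit iInf || decide (3 < pop m % 7) || pop m == 1 || pop m == 2 || pop m == 23 ||
      (m == 0xffffff)) = true ∧
    (subsOr dblOrbs).all (fun m => !m.testBit iZero || m.testBit iInf ||
      decide (3 < pop m % 7) || pop m == 1 || pop m == 23) = true := by
  decide +kernel

theorem dbl_orbit_eq {H : Subgroup (Perm GolayPt)} (hd : dbl ∈ H) (p : GolayPt) :
    ∃ m ∈ subsOr dblOrbs, orbitSet H p = setOf24 m := by
  refine invariant_eq dblOrbs_ok fun f hf => ?_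
  simp only [List.mem_cons, List.not_mem_nil, or_false] at hf
  rcases hf with rfl | rfl | rfl
  · exact ⟨dbl, dblMap_acts, orbitSet_inv hd p⟩
  · exact ⟨dbl * dbl, dblMap_acts.mul dblMap_acts, orbitSet_inv (mul_mem hd hd) p⟩
  · exact ⟨dbl * (dbl * dbl), dblMap_acts.mul (dblMap_acts.mul dblMap_acts),
      orbitSet_inv (mul_mem hd (mul_mem hd hd)) p⟩

theorem dbl_fixed : ∀ p : GolayPt, dbl p = p → p = none ∨ p = some 0 := by decide +kernel

theorem dbl_fixes : dbl none = none ∧ dbl (some 0) = some 0 := by decide +kernel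

/-- An element of order 7 fixes exactly three points. -/
theorem card_fixed_seven {g : Perm GolayPt} (hg : g ∈ M24) (h7 : orderOf g = 7) :
    (Finset.univ.filter fun q => g q = q).card = 3 := by
  obtain ⟨k, hk, j, he⟩ := M24Geom.conj_rep7 hg h7
  rw [← M24Geom.card_fixed_conj k g, he]
  set a := M24Geom.gperm M24Geom.rep7 with ha
  have hj : ¬ 7 ∣ j := by
    rintro ⟨c, rfl⟩
    rw [pow_mul, ha, M24Geom.rep7_spec.2.2, one_pow, conj_eq_one_iff] at he
    rw [he, orderOf_one] at h7
    omega
  obtain ⟨c, hc⟩ : ∃ c, j * c % 7 = 1 := by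
    have h := Nat.exists_mul_mod_eq_one_of_coprime
      ((Nat.Prime.coprime_iff_not_dvd (by norm_num : Nat.Prime 7)).2 hj).symm (by norm_num : 1 < 7)
    obtain ⟨c, -, hc⟩ := h
    exact ⟨c, hc⟩
  have hac : (a ^ j) ^ c = a := by
    rw [← pow_mul, ← Nat.mod_add_div (j * c) 7, hc, pow_add, pow_one, pow_mul,
      show a ^ 7 = 1 from M24Geom.rep7_spec.2.2, one_pow, mul_one]
  have hiff : ∀ q, (a ^ j) q = q ↔ a q = q := fun q => by
    constructor
    · intro h
      rw [← hac]
      exact Function.IsFixedPt.perm_pow h c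
    · exact fun h => Function.IsFixedPt.perm_pow h j
  rw [Finset.filter_congr fun q _ => hiff q, ha, M24Geom.card_fixed M24Geom.rep7_spec.1]
  decide +kernel

theorem card_inv_mod_seven {g : Perm GolayPt} (hg : g ∈ M24) (h7 : orderOf g = 7)
    {A : Finset GolayPt} (hA : g • A = A) : A.card % 7 ≤ 3 := by
  classical
  have : Fact (Nat.Prime 7) := ⟨by norm_num⟩
  have hmem : ∀ x, g x ∈ A ↔ x ∈ A := fun x => by
    conv_lhs => rw [← hA]
    exact smul_mem_smul_pt g x A
  let s : Perm {x // x ∈ A} := g.subtypePerm hmem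
  have hs : s ^ 7 ^ 1 = 1 := by
    rw [pow_one, Equiv.Perm.subtypePerm_pow]
    ext x
    simp [← h7, pow_orderOf_eq_one]
  have h := Equiv.Perm.card_compl_support_modEq (α := {x // x ∈ A}) (p := 7) (n := 1) hs
  have hle : s.supportᶜ.card ≤ 3 := by
    rw [← card_fixed_seven hg h7]
    refine Finset.card_le_card_of_injOn (fun x => (x : GolayPt)) (fun x hx => ?_)
      fun a _ b _ e => Subtype.ext e
    rw [Finset.mem_coe, Finset.mem_compl, Perm.mem_support, not_not] at hx
    simp only [Finset.coe_filter, Finset.mem_univ, true_and, Set.mem_ofPred_eq]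
    exact congrArg Subtype.val hx
  rw [Nat.ModEq, Fintype.card_coe] at h
  omega

theorem fixed_involution_false {g : Perm GolayPt} (hg : g ∈ M24) (h7 : orderOf g = 7)
    (φ : GolayPt → GolayPt) (h2 : ∀ x, φ (φ x) = x) (hne : ∀ x, φ x ≠ x)
    (hcomm : ∀ x, g (φ x) = φ (g x)) : False := by
  classical
  have : Fact (Nat.Prime 2) := ⟨Nat.prime_two⟩
  let F := Finset.univ.filter fun q => g q = q
  have hF : ∀ x, φ x ∈ F ↔ x ∈ F := by
    have h1 : ∀ x, x ∈ F → φ x ∈ F := fun x hx => by
      simp only [F, Finset.mem_filter, Finset.mem_univ, true_and] at hx ⊢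
      rw [hcomm, hx]
    exact fun x => ⟨fun h => by simpa [h2] using h1 _ h, h1 x⟩
  let e : Perm GolayPt := ⟨φ, φ, h2, h2⟩
  let s : Perm {x // x ∈ F} := e.subtypePerm hF
  have hs : s ^ 2 ^ 1 = 1 := by
    rw [pow_one, sq]
    exact Equiv.ext fun x => Subtype.ext (h2 x)
  have h := Equiv.Perm.card_compl_support_modEq (α := {x // x ∈ F}) (p := 2) (n := 1) hs
  have h0 : s.supportᶜ.card = 0 := by
    rw [Finset.card_eq_zero, Finset.eq_empty_iff_forall_notMem]
    intro x hx
    rw [Finset.mem_compl, Perm.mem_support, not_not] at hx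
    exact hne x (congrArg Subtype.val hx)
  rw [Nat.ModEq, Fintype.card_coe, h0, show F.card = 3 from card_fixed_seven hg h7] at h
  omega

/-- A subgroup of order 887040 fixes a pair of points. -/
theorem exists_pair {H : Subgroup (Perm GolayPt)} (hH : H ≤ M24) (hd : dbl ∈ H)
    (hc : Nat.card H = 887040) :
    ∃ s : Finset GolayPt, s.card = 2 ∧ ∀ σ ∈ H, σ • s = s := by
  classical
  have hseven : ∀ K : Subgroup (Perm GolayPt), K ≤ H → 7 ∣ Nat.card K →
      ∃ g ∈ K, orderOf g = 7 := by
    intro K _ h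
    have : Fact (Nat.Prime 7) := ⟨by norm_num⟩
    obtain ⟨g, hg⟩ := exists_prime_orderOf_dvd_card' 7 h
    exact ⟨g, g.2, (Subgroup.orderOf_coe g).trans hg⟩
  obtain ⟨g, hgH, hg7⟩ := hseven H le_rfl (by rw [hc]; norm_num)
  set O := orbitSet H none with hO
  obtain ⟨m, hm, heq⟩ := dbl_orbit_eq hd none
  have hb : m.testBit iInf = true := by
    rw [iInf, ← mem_setOf24, ← heq]
    exact mem_orbitSet.2 ⟨1, one_mem _, rfl⟩
  have h := List.all_eq_true.1 dblOrbs_cases.1 m hm
  simp only [hb, Bool.not_true, Bool.false_or, Bool.or_eq_true, decide_eq_true_eq,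
    beq_iff_eq] at h
  have hmod := card_inv_mod_seven (hH hgH) hg7 (orbitSet_inv hgH (none : GolayPt))
  rw [heq, card_setOf24] at hmod
  rcases h with (((h | h) | h) | h) | h
  · omega
  · exfalso
    have hW : (orbitSet H none).card = 1 := by rw [heq, card_setOf24, h]
    have hdvd : Nat.card H ∣ 10200960 := by
      obtain ⟨a, ha⟩ := Finset.card_eq_one.1 hW
      have h2 := card_le_of_fixes hH a fun σ hσ => by
        have := orbitSet_inv hσ (none : GolayPt)
        rw [ha, Finset.smul_finset_singleton, Finset.singleton_inj] at this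
        exact this
      rwa [Cfsg.Agent.S0376.result a] at h2
    rw [hc] at hdvd
    norm_num at hdvd
  · exact ⟨O, by rw [hO, heq, card_setOf24, h], fun σ hσ => orbitSet_inv hσ _⟩
  · exfalso
    have hd23 := card_orbitSet_dvd H (none : GolayPt)
    rw [heq, card_setOf24, h, hc] at hd23
    norm_num at hd23
  exfalso
  have htr : ∀ x, ∃ σ ∈ H, σ none = x := fun x => mem_orbitSet.1 (by
    rw [heq, h, show setOf24 0xffffff = Finset.univ from by decide +kernel]
    exact Finset.mem_univ x)
  set H1 := H ⊓ MulAction.stabilizer (Perm GolayPt) (none : GolayPt) with hH1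
  have hd1 : dbl ∈ H1 := ⟨hd, dbl_fixes.1⟩
  have hc1 : Nat.card H1 = 36960 := by
    have h1 := Subgroup.card_mul_index (MulAction.stabilizer H (none : GolayPt))
    rw [MulAction.index_stabilizer, hc] at h1
    have h2 : (MulAction.orbit H (none : GolayPt)) = Set.univ :=
      Set.eq_univ_of_forall fun x => by
        obtain ⟨σ, hσ, e⟩ := htr x
        exact ⟨⟨σ, hσ⟩, e⟩
    rw [h2, Set.ncard_univ, show Nat.card GolayPt = 24 from Nat.card_eq_fintype_card.trans rfl]
      at h1
    have h3 : Nat.card H1 = Nat.card (MulAction.stabilizer H (none : GolayPt)) :=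
      Nat.card_congr
        { toFun := fun σ => ⟨⟨σ.1, σ.2.1⟩, σ.2.2⟩
          invFun := fun σ => ⟨σ.1.1, σ.1.2, σ.2⟩
          left_inv := fun _ => rfl
          right_inv := fun _ => rfl }
    omega
  obtain ⟨g1, hg1, hg17⟩ := hseven H1 inf_le_left (by rw [hc1]; norm_num)
  have hfix : ∀ σ ∈ H1, σ (some 0) = (some 0 : GolayPt) := by
    obtain ⟨m', hm', heq'⟩ := dbl_orbit_eq hd1 (some 0 : GolayPt)
    have hz : m'.testBit iZero = true := by
      rw [iZero, ← mem_setOf24, ← heq']
      exact mem_orbitSet.2 ⟨1, one_mem _, rfl⟩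
    have hi : m'.testBit iInf = false := by
      rw [Bool.eq_false_iff, iInf, Ne, ← mem_setOf24, ← heq']
      intro h'
      obtain ⟨τ, hτ, e⟩ := mem_orbitSet.1 h'
      have hn : τ none = (none : GolayPt) := hτ.2
      exact absurd (τ.injective (e.trans hn.symm)) (by simp)
    have h' := List.all_eq_true.1 dblOrbs_cases.2 m' hm'
    simp only [hz, hi, Bool.not_true, Bool.false_or, Bool.or_eq_true, decide_eq_true_eq,
      beq_iff_eq] at h'
    have hmod' := card_inv_mod_seven (hH hg1.1) hg17 (orbitSet_inv hg1 (some 0 : GolayPt))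
    rw [heq', card_setOf24] at hmod'
    rcases h' with (h' | h') | h'
    · omega
    · intro σ hσ
      have h1 : (orbitSet H1 (some 0 : GolayPt)).card ≤ 1 := by rw [heq', card_setOf24, h']
      exact Finset.card_le_one.1 h1 _ (mem_orbitSet.2 ⟨σ, hσ, rfl⟩) _
        (mem_orbitSet.2 ⟨1, one_mem _, rfl⟩)
    · have hd23 := card_orbitSet_dvd H1 (some 0 : GolayPt)
      rw [heq', card_setOf24, h', hc1] at hd23
      norm_num at hd23
  choose s hs hsx using htr
  set φ : GolayPt → GolayPt := fun x => s x (some 0) with hφdef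
  have hφ : ∀ σ ∈ H, ∀ x, σ none = x → φ x = σ (some 0) := by
    intro σ hσ x hx
    have h1 := hfix ((s x)⁻¹ * σ) ⟨H.mul_mem (H.inv_mem (hs x)) hσ, by
      show (s x)⁻¹ (σ none) = none
      rw [hx, Perm.inv_eq_iff_eq, hsx x]⟩
    rw [Perm.mul_apply, Perm.inv_eq_iff_eq] at h1
    exact h1.symm
  have hcomm : ∀ σ ∈ H, ∀ x, σ (φ x) = φ (σ x) := fun σ hσ x => by
    rw [hφ (σ * s x) (mul_mem hσ (hs x)) (σ x) (by rw [Perm.mul_apply, hsx x])]
    rfl
  have hne : ∀ x, φ x ≠ x := fun x e => by
    have := (s x).injective (e.trans (hsx x).symm)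
    simp at this
  have hback : φ (some 0) = none := by
    have h1 : dbl (φ (some 0)) = φ (some 0) := by rw [hcomm dbl hd, dbl_fixes.2]
    rcases dbl_fixed _ h1 with h2 | h2
    · exact h2
    · exact absurd h2 (hne _)
  have h2 : ∀ x, φ (φ x) = x := fun x => by
    show φ (s x (some 0)) = x
    rw [← hcomm _ (hs x), hback, hsx x]
  exact fixed_involution_false (hH hgH) hg7 φ h2 hne fun x => hcomm g hgH x

end Cfsg.Agent.Lib.MathieuMax
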