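import Cfsg.Agent.Lib.MathieuMax.M24Orb
import Cfsg.Agent.Lib.Golay.Trios
import Cfsg.Agent.Lib.Golay.Sextets

/-!
# Large subgroups of the group of the 24 points with full 2-part
-/

set_option autoImplicit false

namespace Cfsg.Agent.Lib.MathieuMax

open Cfsg Equiv Cfsg.Agent.Lib.Compute Cfsg.Agent.Lib.GolayOrbit
open scoped Pointwise

/-- Sizes of stabilisers. -/
theorem card_le_of_fixes {α : Type} [MulAction (Perm GolayPt) α] {H : Subgroup (Perm GolayPt)}
    (hH : H ≤ M24) (a : α) (h : ∀ σ ∈ H, σ • a = a) :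
    Nat.card H ∣ Nat.card (MulAction.stabilizer M24 a) := by
  rw [← Nat.card_congr (Subgroup.subgroupOfEquivOfLe hH).toEquiv]
  exact Subgroup.card_dvd_of_le fun σ hσ => h _ hσ

theorem card_stabilizer_octad {o : Finset GolayPt} (ho : o ∈ octads) :
    Nat.card (MulAction.stabilizer M24 o) = 322560 := by
  obtain ⟨g, hg, he⟩ := exists_to_baseOctad ho
  have h := card_stabilizer_smul (⟨g, hg⟩ : M24) (x := o) (y := baseOctad) he
  rw [← h, show baseOctad = maskCoding.dec oct0 from rfl, octCert_stab.card_stabilizer]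
  decide +kernel

theorem card_stabilizer_sextet {S : Finset (Finset GolayPt)} (hS : S ∈ sextets) :
    Nat.card (MulAction.stabilizer M24 S) = 138240 := by
  obtain ⟨g, hg, he⟩ := exists_to_baseSextet hS
  have h := card_stabilizer_smul (⟨g, hg⟩ : M24) (x := S) (y := baseSextet) he
  rw [← h, baseSextet, sexCert_stab.card_stabilizer]
  decide +kernel

theorem card_stabilizer_trio {T : Finset (Finset GolayPt)} (hT : T ∈ trios) :
    Nat.card (MulAction.stabilizer M24 T) = 64512 := by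
  obtain ⟨g, hg, he⟩ := exists_to_baseTrio hT
  have h := card_stabilizer_smul (⟨g, hg⟩ : M24) (x := T) (y := baseTrio) he
  rw [← h, baseTrio, trioCert_stab.card_stabilizer]
  decide +kernel

theorem card_stabilizer_small (k : ℕ) (hk : k ≤ 5) {A : Finset GolayPt} (hA : A.card = k) :
    Nat.card (MulAction.stabilizer M24 A) * Nat.choose 24 k ≤ 244823040 := by
  have h := card_stabilizer_mul_le (G := M24) A ((Finset.univ : Finset GolayPt).powersetCard k)
    fun y hy => by
      obtain ⟨g, hg, e⟩ := exists_smul_small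
        (hA.trans (Finset.mem_powersetCard.1 hy).2.symm) (by omega)
      exact ⟨⟨g, hg⟩, e⟩
  rwa [Finset.card_powersetCard, card_M24,
    show (Finset.univ : Finset GolayPt).card = 24 from rfl] at h

/-- The orbit of a point as a finite set. -/
noncomputable def orbitSet (H : Subgroup (Perm GolayPt)) (p : GolayPt) : Finset GolayPt :=
  open scoped Classical in (MulAction.orbit H p).toFinset

theorem mem_orbitSet {H : Subgroup (Perm GolayPt)} {p q : GolayPt} :
    q ∈ orbitSet H p ↔ ∃ σ ∈ H, σ p = q := by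
  classical
  rw [orbitSet, Set.mem_toFinset]
  exact ⟨fun ⟨σ, h⟩ => ⟨σ.1, σ.2, h⟩, fun ⟨σ, hσ, h⟩ => ⟨⟨σ, hσ⟩, h⟩⟩

theorem orbitSet_inv {H : Subgroup (Perm GolayPt)} {σ : Perm GolayPt} (hσ : σ ∈ H) (p : GolayPt) :
    σ • orbitSet H p = orbitSet H p := by
  ext q
  rw [← Finset.inv_smul_mem_iff, mem_orbitSet, mem_orbitSet]
  exact ⟨fun ⟨τ, hτ, h⟩ => ⟨σ * τ, mul_mem hσ hτ, by
      rw [Perm.mul_apply, h, ← Perm.smul_def, smul_inv_smul]⟩,
    fun ⟨τ, hτ, h⟩ => ⟨σ⁻¹ * τ, mul_mem (inv_mem hσ) hτ, by rw [Perm.mul_apply, h]; rfl⟩⟩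

theorem compl_inv {σ : Perm GolayPt} {O : Finset GolayPt} (h : σ • O = O) : σ • Oᶜ = Oᶜ := by
  ext q
  rw [← Finset.inv_smul_mem_iff, Finset.mem_compl, Finset.mem_compl, not_iff_not]
  conv_rhs => rw [← h]
  exact Finset.inv_smul_mem_iff

theorem card_orbitSet_dvd (H : Subgroup (Perm GolayPt)) (p : GolayPt) :
    (orbitSet H p).card ∣ Nat.card H := by
  classical
  rw [orbitSet, ← Set.ncard_eq_toFinset_card', ← MulAction.index_stabilizer]
  exact Subgroup.index_dvd_card _

theorem fix_base {σ : Perm GolayPt} (hσ : σ ∈ gpGrp m23Syl2) : σ (pt 0) = pt 0 := by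
  have h := (syl_le hσ).2
  exact h

/-- The unions of orbits containing the point 1. -/
theorem orbit_cases : (subsOr (fixData 0).2).all (fun m => !m.testBit 1 ||
    (967680 % pop m != 0) || (m == 0xffffff) ||
    (pop (m ^^^ 0xffffff) == 3 && (!(!m.testBit 0) || m ^^^ 0xffffff == 0x200041)) ||
    (pop (m ^^^ 0xffffff) == 4 && (!(!m.testBit 0) || m ^^^ 0xffffff == 0x210041)) ||
    (decide (5 ≤ pop (m ^^^ 0xffffff)) && ((m ^^^ 0xffffff) &&& 0x3540c1 == m ^^^ 0xffffff))) = true :=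
  by decide +kernel

theorem octad_base : setOf24 0x3540c1 ∈ octads :=
  setOf24_mem_octads octMask_spec.1 octMask_spec.2.1

/-- The invariant sets of a group containing the Sylow subgroup. -/
theorem orbit_one {H : Subgroup (Perm GolayPt)} (hH : H ≤ M24) (hP : gpGrp m23Syl2 ≤ H)
    (hc : Nat.card H ∣ 967680) :
    orbitSet H (pt 1) = Finset.univ ∨
    (∀ σ ∈ H, σ • setOf24 0x3540c1 = setOf24 0x3540c1) ∨
    ∃ W : Finset GolayPt, (W.card = 3 ∨ W.card = 4) ∧ W = (orbitSet H (pt 1))ᶜ ∧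
      (∀ σ ∈ H, σ • W = W) ∧
      ((∀ σ ∈ H, σ (pt 0) = pt 0) →
        (W.card = 3 ∧ W = setOf24 0x200041) ∨ (W.card = 4 ∧ W = setOf24 0x210041)) := by
  classical
  set O := orbitSet H (pt 1) with hO
  obtain ⟨m, hm, heq⟩ := fixed_invariant_eq (y := 0) (by simp [fixPts])
    (A := O) fun σ hσ _ => orbitSet_inv (hP hσ) _
  have h1 : m.testBit 1 = true := by
    rw [← pt_mem_setOf24 (i := 1) (by norm_num), ← heq]
    exact mem_orbitSet.2 ⟨1, one_mem _, rfl⟩
  have hd : 967680 % pop m = 0 := by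
    refine Nat.mod_eq_zero_of_dvd ((?_ : pop m ∣ Nat.card H).trans hc)
    rw [← card_setOf24, ← heq]
    exact card_orbitSet_dvd _ _
  have hW : Oᶜ = setOf24 (m ^^^ 0xffffff) := by
    rw [heq]; exact (setOf24_compl m).symm
  have h := List.all_eq_true.1 orbit_cases m hm
  simp only [h1, Bool.not_true, Bool.false_or, Bool.or_eq_true, bne_iff_ne, ne_eq, hd, not_true,
    false_or, beq_iff_eq, Bool.and_eq_true, decide_eq_true_eq, Bool.not_eq_true'] at h
  rcases h with ((h | ⟨h3, h⟩) | ⟨h4, h⟩) | ⟨h5, h⟩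
  · left
    rw [heq, h]
    decide +kernel
  · refine Or.inr (Or.inr ⟨Oᶜ, Or.inl (by rw [hW, card_setOf24, h3]), rfl,
      fun σ hσ => compl_inv (orbitSet_inv hσ _), fun hfix => Or.inl ⟨by rw [hW, card_setOf24, h3], ?_⟩⟩)
    rcases h with h | h
    · exfalso
      simp only [Bool.not_eq_false'] at h
      rw [← pt_mem_setOf24 (i := 0) (by norm_num), ← heq] at h
      obtain ⟨τ, hτ, he⟩ := mem_orbitSet.1 h
      exact absurd (τ.injective (he.trans (hfix τ hτ).symm)) (by decide +kernel)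
    · rw [hW, h]
  · refine Or.inr (Or.inr ⟨Oᶜ, Or.inr (by rw [hW, card_setOf24, h4]), rfl,
      fun σ hσ => compl_inv (orbitSet_inv hσ _), fun hfix => Or.inr ⟨by rw [hW, card_setOf24, h4], ?_⟩⟩)
    rcases h with h | h
    · exfalso
      simp only [Bool.not_eq_false'] at h
      rw [← pt_mem_setOf24 (i := 0) (by norm_num), ← heq] at h
      obtain ⟨τ, hτ, he⟩ := mem_orbitSet.1 h
      exact absurd (τ.injective (he.trans (hfix τ hτ).symm)) (by decide +kernel)
    · rw [hW, h]
  · right; left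
    intro σ hσ
    have hsub : Oᶜ ⊆ setOf24 0x3540c1 := by
      rw [hW, ← h, setOf24_and]; exact Finset.inter_subset_right
    refine octad_eq_of_five (smul_mem_octads (hH hσ) octad_base) octad_base ?_
    calc 5 ≤ Oᶜ.card := by rw [hW, card_setOf24]; exact h5
      _ ≤ _ := Finset.card_le_card (Finset.subset_inter
          ((compl_inv (orbitSet_inv hσ _)).symm.le.trans
            (Finset.smul_finset_subset_smul_finset hsub)) hsub)

end Cfsg.Agent.Lib.MathieuMax
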