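import Cfsg.Agent.Lib.MathieuMax.M24Sub

/-!
# Transitive subgroups with full 2-part
-/

set_option autoImplicit false

namespace Cfsg.Agent.Lib.MathieuMax

open Cfsg Equiv Cfsg.Agent.Lib.Compute Cfsg.Agent.Lib.GolayOrbit
open scoped Pointwise

/-- Spreading a set fixed by a point stabiliser over a transitive group. -/
theorem exists_spread {H : Subgroup (Perm GolayPt)} {x0 : GolayPt} {W : Finset GolayPt}
    (htr : ∀ x, ∃ σ ∈ H, σ x0 = x) (hW : ∀ σ ∈ H, σ x0 = x0 → σ • W = W) (hx0 : x0 ∈ W) :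
    ∃ T : GolayPt → Finset GolayPt, T x0 = W ∧ (∀ σ ∈ H, ∀ x, T (σ x) = σ • T x) ∧
      ∀ x, x ∈ T x := by
  classical
  choose s hs hsx using htr
  have hT : ∀ σ ∈ H, ∀ x, σ x0 = x → s x • W = σ • W := by
    intro σ hσ x hx
    have h := hW ((s x)⁻¹ * σ) (mul_mem (inv_mem (hs x)) hσ)
      (by rw [Perm.mul_apply, hx, Perm.inv_eq_iff_eq, hsx x])
    rw [mul_smul, inv_smul_eq_iff] at h
    exact h.symm
  refine ⟨fun x => s x • W, ?_, fun σ hσ x => ?_, fun x => ?_⟩
  · show s x0 • W = W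
    rw [hT 1 (one_mem _) x0 rfl, one_smul]
  · show s (σ x) • W = σ • (s x • W)
    rw [smul_smul]
    exact hT _ (mul_mem hσ (hs x)) _ (by rw [Perm.mul_apply, hsx x])
  · have h := (smul_mem_smul_pt (s x) x0 W).2 hx0
    rwa [hsx x] at h

/-- Counting a partition given by a map to blocks. -/
theorem card_image_mul {α : Type} [Fintype α] [DecidableEq α] {k : ℕ} (T : α → Finset α)
    (hcard : ∀ x, (T x).card = k) (hmem : ∀ x, x ∈ T x)
    (hdis : ∀ x y, T x ≠ T y → Disjoint (T x) (T y)) :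
    (Finset.univ.image T).card * k = Fintype.card α := by
  have h1 : (Finset.univ.image T).biUnion id = Finset.univ :=
    Finset.eq_univ_iff_forall.2 fun x => Finset.mem_biUnion.2
      ⟨T x, Finset.mem_image_of_mem T (Finset.mem_univ x), hmem x⟩
  have h2 := Finset.card_biUnion (s := Finset.univ.image T) (t := id) fun s hs t ht hne => by
    obtain ⟨x, -, rfl⟩ := Finset.mem_image.1 hs
    obtain ⟨y, -, rfl⟩ := Finset.mem_image.1 ht
    exact hdis x y hne
  rw [h1, Finset.card_univ, Finset.sum_const_nat (m := k) fun s hs => by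
    obtain ⟨x, -, rfl⟩ := Finset.mem_image.1 hs
    exact hcard x] at h2
  exact h2.symm

theorem pt_of_mem {m : ℕ} {l : List ℕ} (hl : ∀ i : Fin 24, m.testBit i = true → (i : ℕ) ∈ l)
    {x : GolayPt} (hx : x ∈ setOf24 m) : ∃ i ∈ l, x = pt i :=
  ⟨_, hl _ (mem_setOf24.1 hx), (pt_enc x).symm⟩

section

variable {H : Subgroup (Perm GolayPt)} (hH : H ≤ M24) (hP : gpGrp m23Syl2 ≤ H)
  (T : GolayPt → Finset GolayPt) (hT : ∀ σ ∈ H, ∀ x, T (σ x) = σ • T x) (hmem : ∀ x, x ∈ T x)
  (htr : ∀ x, ∃ σ ∈ H, σ (pt 0) = x)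

include hP hT in
theorem fix_T {y : ℕ} : ∀ σ ∈ gpGrp m23Syl2, σ (pt y) = pt y → σ • T (pt y) = T (pt y) :=
  fun σ hσ he => by rw [← hT σ (hP hσ), he]

include hT htr in
/-- The images of a block form a partition. -/
theorem partition (hblock : ∀ x ∈ T (pt 0), T x = T (pt 0)) :
    ∀ a z, a ∈ T z → T a = T z := by
  intro a z ha
  obtain ⟨σ, hσ, rfl⟩ := htr z
  rw [hT σ hσ] at ha ⊢
  rw [← Finset.inv_smul_mem_iff] at ha
  rw [← hblock _ ha, ← hT σ hσ, Perm.smul_def, ← Perm.mul_apply, mul_inv_cancel, Perm.one_apply]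

include hT hmem htr in
theorem image_facts {k : ℕ} (hk : (T (pt 0)).card = k) (hblock : ∀ x ∈ T (pt 0), T x = T (pt 0)) :
    (∀ x, (T x).card = k) ∧ (Finset.univ.image T).card * k = 24 ∧
      (∀ σ ∈ H, σ • Finset.univ.image T = Finset.univ.image T) ∧
      ∀ x y, T x ≠ T y → Disjoint (T x) (T y) := by
  classical
  have hcard : ∀ x, (T x).card = k := by
    intro x
    obtain ⟨σ, hσ, rfl⟩ := htr x
    rw [hT σ hσ, Finset.card_smul_finset, hk]
  have hpart := partition T hT htr hblock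
  have hdis : ∀ x y, T x ≠ T y → Disjoint (T x) (T y) := fun x y hne =>
    Finset.disjoint_left.2 fun a hx hy => hne ((hpart a x hx).symm.trans (hpart a y hy))
  refine ⟨hcard, card_image_mul T hcard hmem hdis, fun σ hσ => ?_, hdis⟩
  refine Finset.eq_of_subset_of_card_le (fun s hs => ?_) (by rw [Finset.card_smul_finset])
  obtain ⟨t, ht, rfl⟩ := Finset.mem_smul_finset.1 hs
  obtain ⟨x, -, rfl⟩ := Finset.mem_image.1 ht
  exact Finset.mem_image.2 ⟨σ x, Finset.mem_univ _, hT σ hσ x⟩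

include hH hP hT hmem htr in
theorem octad_case (h0 : T (pt 0) = setOf24 0x3540c1) : Nat.card H ≤ 64512 := by
  classical
  have hoct : ∀ x, T x ∈ octads := by
    intro x
    obtain ⟨σ, hσ, rfl⟩ := htr x
    rw [hT σ hσ, h0]
    exact smul_mem_octads (hH hσ) octad_base
  have hblock : ∀ x ∈ T (pt 0), T x = T (pt 0) := by
    intro x hx
    rw [h0] at hx ⊢
    obtain ⟨i, hi, rfl⟩ := pt_of_mem (l := fixPts) (by decide +kernel) hx
    exact octad_fix_unique hi (hoct _) (hmem _) (fix_T hP T hT)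
  have h8 : (T (pt 0)).card = 8 := by rw [h0, card_setOf24]; decide +kernel
  obtain ⟨-, hcard, hinv, hdis⟩ := image_facts T hT hmem htr h8 hblock
  have htrio : Finset.univ.image T ∈ trios := by
    refine ⟨by omega, fun o ho => ?_, fun o ho o' ho' hne => ?_⟩
    · obtain ⟨x, -, rfl⟩ := Finset.mem_image.1 ho
      exact hoct x
    · obtain ⟨x, -, rfl⟩ := Finset.mem_image.1 ho
      obtain ⟨y, -, rfl⟩ := Finset.mem_image.1 ho'
      exact hdis x y hne
  have h := card_le_of_fixes hH _ hinv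
  rw [card_stabilizer_trio htrio] at h
  exact Nat.le_of_dvd (by norm_num) h

include hP hT hmem htr in
theorem triad_case (h0 : T (pt 0) = setOf24 0x200041)
    (hmove : ∃ σ ∈ H, σ (pt 0) = pt 0 ∧ σ (pt 16) = pt 1) : False := by
  classical
  obtain ⟨m, hm, h16⟩ := fixed_invariant_eq (y := 16) (by simp [fixPts]) (fix_T hP T hT)
  have hk : ∀ x, (T x).card = 3 := by
    intro x
    obtain ⟨σ, hσ, rfl⟩ := htr x
    rw [hT σ hσ, h0, Finset.card_smul_finset, card_setOf24]
    decide +kernel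
  have hb : m.testBit 16 = true := by
    rw [← pt_mem_setOf24 (i := 16) (by norm_num), ← h16]; exact hmem _
  have hp : pop m = 3 := by rw [← card_setOf24, ← h16]; exact hk _
  have h := List.all_eq_true.1 small_fix_check.2.2 m hm
  simp only [hb, hp, Bool.not_true, Bool.false_or, beq_self_eq_true, beq_iff_eq] at h
  subst h
  obtain ⟨σ, hσ, hσ0, hσ16⟩ := hmove
  set z := pt 6 with hz
  have hz0 : z ∈ T (pt 0) := by rw [h0, hz, pt_mem_setOf24 (by norm_num)]; decide +kernel
  have hz16 : z ∈ T (pt 16) := by rw [h16, hz, pt_mem_setOf24 (by norm_num)]; decide +kernel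
  have hσz : z ∈ T (pt 1) := by
    have hzz : σ z = z ∨ σ z = pt 21 := by
      have h1 : σ z ∈ T (pt 0) := by
        rw [← hσ0, hT σ hσ]; exact (smul_mem_smul_pt σ z _).2 hz0
      rw [h0] at h1
      obtain ⟨i, hi, he⟩ := pt_of_mem (l := [0, 6, 21]) (by decide +kernel) h1
      simp only [List.mem_cons, List.not_mem_nil, or_false] at hi
      rcases hi with rfl | rfl | rfl
      · exact absurd (σ.injective (he.trans hσ0.symm)) (by rw [hz]; decide +kernel)
      · exact Or.inl (by rw [he, hz])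
      · exact Or.inr he
    rw [← hσ16, hT σ hσ, ← Finset.inv_smul_mem_iff, h16]
    rcases hzz with h | h
    · rw [Perm.smul_def, Perm.inv_eq_iff_eq.2 h.symm, hz, pt_mem_setOf24 (by norm_num)]
      decide +kernel
    · have h1 : σ⁻¹ z ∈ T (pt 0) := by
        have h2 : σ⁻¹ (pt 0) = pt 0 := Perm.inv_eq_iff_eq.2 hσ0.symm
        rw [← h2, hT _ (inv_mem hσ)]; exact (smul_mem_smul_pt σ⁻¹ z _).2 hz0
      rw [h0] at h1
      obtain ⟨i, hi, he⟩ := pt_of_mem (l := [0, 6, 21]) (by decide +kernel) h1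
      simp only [List.mem_cons, List.not_mem_nil, or_false] at hi
      rw [Perm.smul_def, he, pt_mem_setOf24 (by rcases hi with rfl | rfl | rfl <;> norm_num)]
      rcases hi with rfl | rfl | rfl
      · exfalso
        rw [Perm.inv_eq_iff_eq, hσ0, hz] at he
        exact absurd he (by decide +kernel)
      · decide +kernel
      · decide +kernel
  set S : GolayPt → Finset GolayPt := fun x => Finset.univ.filter fun y => x ∈ T y with hS
  have hconst : ∀ x, (S x).card = (S z).card := by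
    intro x
    obtain ⟨σ1, h1, e1⟩ := htr x
    obtain ⟨σ2, h2, e2⟩ := htr z
    have key : ∀ τ ∈ H, ∀ q, (S (τ q)).card = (S q).card := by
      intro τ hτ q
      refine (Finset.card_bij (fun y _ => τ y) (fun y hy => ?_) (fun a _ b _ e => τ.injective e)
        fun y hy => ⟨τ⁻¹ y, ?_, by simp⟩).symm
      · simp only [hS, Finset.mem_filter, Finset.mem_univ, true_and] at hy ⊢
        rw [hT τ hτ]; exact (smul_mem_smul_pt τ q _).2 hy
      · simp only [hS, Finset.mem_filter, Finset.mem_univ, true_and] at hy ⊢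
        rw [← smul_mem_smul_pt τ q, ← hT τ hτ, ← Perm.mul_apply, mul_inv_cancel, Perm.one_apply]
        exact hy
    rw [← e1, ← e2, key _ h1, key _ h2]
  have hsum : ∑ x : GolayPt, (S x).card = ∑ y : GolayPt, (T y).card := by
    simp only [hS, Finset.card_filter]
    rw [Finset.sum_comm]
    refine Finset.sum_congr rfl fun y _ => ?_
    rw [← Finset.card_filter]
    congr 1
    ext q; simp
  rw [Finset.sum_congr rfl (fun x _ => hconst x), Finset.sum_congr rfl (fun y _ => hk y),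
    Finset.sum_const, Finset.sum_const, smul_eq_mul, smul_eq_mul, Finset.card_univ,
    show Fintype.card GolayPt = 24 from rfl] at hsum
  have h4 : ({pt 0, pt 16, pt 1, z} : Finset GolayPt) ⊆ S z := by
    intro q hq
    simp only [Finset.mem_insert, Finset.mem_singleton] at hq
    simp only [hS, Finset.mem_filter, Finset.mem_univ, true_and]
    rcases hq with rfl | rfl | rfl | rfl
    exacts [hz0, hz16, hσz, hmem _]
  have h5 := Finset.card_le_card h4
  rw [show ({pt 0, pt 16, pt 1, z} : Finset GolayPt).card = 4 from by rw [hz]; decide +kernel] at h5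
  omega

include hH hP hT hmem htr in
theorem tetrad_case (h0 : T (pt 0) = setOf24 0x210041)
    (horb : ∀ x, x ∉ T (pt 0) → ∃ σ ∈ H, σ (pt 0) = pt 0 ∧ σ (pt 7) = x) :
    ∃ S ∈ sextets, ∀ σ ∈ H, σ • S = S := by
  classical
  have h4 : (T (pt 0)).card = 4 := by rw [h0, card_setOf24]; decide +kernel
  have hk : ∀ x, (T x).card = 4 := by
    intro x
    obtain ⟨σ, hσ, rfl⟩ := htr x
    rw [hT σ hσ, Finset.card_smul_finset, h4]
  have get : ∀ y ∈ fixPts, ∃ m ∈ subsOr (fixData y).2, T (pt y) = setOf24 m ∧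
      m.testBit y = true ∧ pop m = 4 := by
    intro y hy
    have hy24 : y < 24 := by
      have : ∀ z ∈ fixPts, z < 24 := by decide +kernel
      exact this y hy
    obtain ⟨m, hm, he⟩ := fixed_invariant_eq hy (fix_T hP T hT)
    exact ⟨m, hm, he, (pt_mem_setOf24 hy24).1 (he ▸ hmem _), by rw [← card_setOf24, ← he, hk]⟩
  have hblock : ∀ x ∈ T (pt 0), T x = T (pt 0) := by
    intro x hx
    rw [h0] at hx ⊢
    obtain ⟨i, hi, rfl⟩ := pt_of_mem (l := [0, 16, 6, 21]) (by decide +kernel) hx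
    rcases List.mem_cons.1 hi with rfl | hi'
    · exact h0
    · obtain ⟨m, hm, he, hb, hp⟩ := get i (by
        rcases List.mem_cons.1 hi' with rfl | h
        · simp [fixPts]
        · simp only [List.mem_cons, List.not_mem_nil, or_false] at h
          rcases h with rfl | rfl <;> simp [fixPts])
      have h := List.all_eq_true.1 (List.all_eq_true.1 small_fix_check.1 i hi') m hm
      simp only [hb, hp, Bool.not_true, Bool.false_or, beq_self_eq_true, beq_iff_eq] at h
      rw [he, h]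
  obtain ⟨-, hcard, hinv, hdis⟩ := image_facts T hT hmem htr h4 hblock
  have h7 : T (pt 7) = setOf24 0x144080 := by
    have hne : T (pt 7) ≠ T (pt 0) := fun e => by
      have := hmem (pt 7)
      rw [e, h0, pt_mem_setOf24 (by norm_num)] at this
      revert this; decide +kernel
    obtain ⟨m, hm, he, hb, hp⟩ := get 7 (by simp [fixPts])
    have hd : m &&& 0x210041 = 0 := by
      have hlt : m < 2 ^ 24 := by
        have : ∀ k ∈ subsOr (fixData 7).2, k < 2 ^ 24 := by decide +kernel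
        exact this m hm
      rw [← disjoint_setOf24 hlt, ← he, ← h0]
      exact hdis _ _ hne
    have h := List.all_eq_true.1 small_fix_check.2.1 m hm
    simp only [hb, hp, hd, Bool.not_true, Bool.false_or, beq_self_eq_true, beq_iff_eq] at h
    rw [he, h]
  refine ⟨Finset.univ.image T, ⟨by omega, fun t ht => ?_, fun t ht u hu hne => ?_⟩, hinv⟩
  · obtain ⟨x, -, rfl⟩ := Finset.mem_image.1 ht
    exact hk x
  · obtain ⟨a, -, rfl⟩ := Finset.mem_image.1 ht
    obtain ⟨b, -, rfl⟩ := Finset.mem_image.1 hu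
    obtain ⟨σ, hσ, rfl⟩ := htr a
    have hb : σ⁻¹ b ∉ T (pt 0) := fun hmem' => by
      have h := hblock _ hmem'
      apply hne
      rw [hT σ hσ, ← h, ← hT σ hσ, ← Perm.mul_apply, mul_inv_cancel, Perm.one_apply]
    obtain ⟨τ, hτ, hτ0, hτ7⟩ := horb _ hb
    have hb' : b = (σ * τ) (pt 7) := by
      rw [Perm.mul_apply, hτ7, ← Perm.mul_apply, mul_inv_cancel, Perm.one_apply]
    have hW : T (σ (pt 0)) = (σ * τ) • T (pt 0) := by
      rw [← hT _ (mul_mem hσ hτ), Perm.mul_apply, hτ0]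
    rw [hb', hW, hT _ (mul_mem hσ hτ), ← Finset.smul_finset_union, h7, h0,
      show setOf24 0x210041 ∪ setOf24 0x144080 = setOf24 0x3540c1 from by decide +kernel]
    exact smul_mem_octads (mul_mem (hH hσ) (hH hτ)) octad_base

end

/-- A large subgroup containing the Sylow subgroup fixes an octad or a sextet. -/
theorem exists_fixed {H : Subgroup (Perm GolayPt)} (hH : H ≤ M24) (hP : gpGrp m23Syl2 ≤ H)
    (hc : Nat.card H ∣ 967680) (hbig : 138240 ≤ Nat.card H) :
    (∃ o ∈ octads, ∀ σ ∈ H, σ • o = o) ∨ ∃ S ∈ sextets, ∀ σ ∈ H, σ • S = S := by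
  classical
  have htr : orbitSet H (pt 1) = Finset.univ ∨ ∃ o ∈ octads, ∀ σ ∈ H, σ • o = o := by
    rcases orbit_one hH hP hc with h | h | ⟨W, h34, -, hW, -⟩
    · exact Or.inl h
    · exact Or.inr ⟨_, octad_base, h⟩
    · exfalso
      have h1 := Nat.le_of_dvd Nat.card_pos (card_le_of_fixes hH W hW)
      rcases h34 with h | h
      · have h2 := card_stabilizer_small 3 (by norm_num) h
        rw [show Nat.choose 24 3 = 2024 from by decide +kernel] at h2
        omega
      · have h2 := card_stabilizer_small 4 (by norm_num) h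
        rw [show Nat.choose 24 4 = 10626 from by decide +kernel] at h2
        omega
  rcases htr with htr | h
  swap
  · exact Or.inl h
  have htr0 : ∀ x, ∃ σ ∈ H, σ (pt 0) = x := by
    intro x
    obtain ⟨σ, hσ, e⟩ := mem_orbitSet.1 (htr.symm ▸ Finset.mem_univ (pt 0))
    obtain ⟨τ, hτ, e'⟩ := mem_orbitSet.1 (htr.symm ▸ Finset.mem_univ x)
    exact ⟨τ * σ⁻¹, mul_mem hτ (inv_mem hσ), by
      rw [Perm.mul_apply, Perm.inv_eq_iff_eq.2 e.symm, e']⟩
  set H0 := H ⊓ MulAction.stabilizer (Perm GolayPt) (pt 0) with hH0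
  have hH0le : H0 ≤ M24 := inf_le_left.trans hH
  have hP0 : gpGrp m23Syl2 ≤ H0 := le_inf hP fun σ hσ => fix_base hσ
  have hfix0 : ∀ σ ∈ H0, σ (pt 0) = pt 0 := fun σ hσ => hσ.2
  have hc0 : Nat.card H0 ∣ 967680 := (Subgroup.card_dvd_of_le inf_le_left).trans hc
  have h10 : pt 0 ∉ orbitSet H0 (pt 1) := fun h => by
    obtain ⟨τ, hτ, he⟩ := mem_orbitSet.1 h
    exact absurd (τ.injective (he.trans (hfix0 τ hτ).symm)) (by decide +kernel)
  rcases orbit_one hH0le hP0 hc0 with h | h | ⟨W, -, hWO, hW, hW'⟩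
  · exact absurd (h ▸ Finset.mem_univ _) h10
  · obtain ⟨T, hT0, hT, hmem⟩ := exists_spread (W := setOf24 0x3540c1) htr0
      (fun σ hσ he => h σ ⟨hσ, he⟩) (by rw [pt_mem_setOf24 (by norm_num)]; decide +kernel)
    have := octad_case hH hP T hT hmem htr0 hT0
    omega
  · have hx0W : pt 0 ∈ W := hWO ▸ Finset.mem_compl.2 h10
    obtain ⟨T, hT0, hT, hmem⟩ := exists_spread (W := W) htr0
      (fun σ hσ he => hW σ ⟨hσ, he⟩) hx0W
    have hout : ∀ x, x ∉ W → ∃ τ ∈ H0, τ (pt 1) = x := fun x hx => by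
      rw [hWO, Finset.mem_compl, not_not] at hx
      exact mem_orbitSet.1 hx
    rcases hW' hfix0 with ⟨-, hW3⟩ | ⟨-, hW4⟩
    · exfalso
      obtain ⟨τ, hτ, he⟩ := hout (pt 16)
        (by rw [hW3, pt_mem_setOf24 (by norm_num)]; decide +kernel)
      exact triad_case hP T hT hmem htr0 (hT0.trans hW3)
        ⟨τ⁻¹, inv_mem hτ.1, Perm.inv_eq_iff_eq.2 (hfix0 τ hτ).symm, Perm.inv_eq_iff_eq.2 he.symm⟩
    · refine Or.inr (tetrad_case hH hP T hT hmem htr0 (hT0.trans hW4) fun x hx => ?_)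
      obtain ⟨τ, hτ, he⟩ := hout (pt 7)
        (by rw [hW4, pt_mem_setOf24 (by norm_num)]; decide +kernel)
      obtain ⟨σ, hσ, he'⟩ := hout x (hT0 ▸ hx)
      exact ⟨σ * τ⁻¹, mul_mem hσ.1 (inv_mem hτ.1), by
        rw [Perm.mul_apply, Perm.inv_eq_iff_eq.2 (hfix0 τ hτ).symm, hfix0 σ hσ], by
        rw [Perm.mul_apply, Perm.inv_eq_iff_eq.2 he.symm, he']⟩

end Cfsg.Agent.Lib.MathieuMax
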